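import Mathlib
import Cfsg.Agent.Lib.Chars.Completeness
import Cfsg.Agent.Lib.Chars.Ops
import Cfsg.Agent.Lib.Chars.Induced
import Cfsg.Agent.Lib.SmallGroups.Basic

/-!
Sums of characters over subgroups and values at involutions of simple groups.
-/

set_option autoImplicit false

namespace Cfsg.Agent.Lib.DegreeGraphM12

open Cfsg Cfsg.Agent.Lib
open scoped ComplexConjugate

universe u

variable {G : Type u} [Group G] [Finite G]

/-- A character sums to a multiple of the order over a subgroup. -/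
theorem exists_sum_eq (χ : IrrCharacter G) (H : Subgroup G) [Fintype H] :
    ∃ k : ℕ, ∑ h : H, (χ : G → ℂ) h = (Nat.card H : ℂ) * k := by
  classical
  haveI := Fintype.ofFinite G
  obtain ⟨k, hk⟩ := Chars.isCharacter_classInner_nat
    (Chars.isCharacter_restrict H (Chars.irr_isCharacter χ))
    (Chars.irr_isCharacter (Chars.trivialIrr H))
  refine ⟨k, ?_⟩
  rw [← hk]
  simp [classInner, Finset.mul_sum]

/-- When a character vanishes in sum over a subgroup, so it does over each coset. -/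
theorem sum_coset_eq_zero (χ : IrrCharacter G) (H : Subgroup G) [Fintype H]
    (h0 : ∑ h : H, (χ : G → ℂ) h = 0) (y : G) : ∑ h : H, (χ : G → ℂ) (h * y) = 0 := by
  classical
  obtain ⟨n, ρ, -, hρ⟩ := χ.2
  set σ : Representation ℂ H (Fin n → ℂ) := ρ.comp H.subtype with hσ
  set E : (Fin n → ℂ) →ₗ[ℂ] (Fin n → ℂ) := (Nat.card H : ℂ)⁻¹ • ∑ h : H, σ h with hE
  have hcard : (Nat.card H : ℂ) ≠ 0 := Nat.cast_ne_zero.mpr Nat.card_pos.ne'
  have hfix : ∀ g : H, σ g * E = E := fun g => by
    rw [hE, mul_smul_comm, Finset.mul_sum]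
    congr 1
    exact Fintype.sum_equiv (Equiv.mulLeft g) _ _ fun h => (map_mul σ g h).symm
  have hidem : IsIdempotentElem E := by
    show E * E = E
    nth_rw 1 [hE]
    rw [smul_mul_assoc, Finset.sum_mul, Finset.sum_congr rfl fun g _ => hfix g, Finset.sum_const,
      Finset.card_univ, ← Nat.cast_smul_eq_nsmul ℂ, smul_smul, ← Nat.card_eq_fintype_card,
      inv_mul_cancel₀ hcard, one_smul]
  have htr : LinearMap.trace ℂ _ E = 0 := by
    rw [hE, map_smul, map_sum]
    have : ∑ h : H, LinearMap.trace ℂ (Fin n → ℂ) (σ h) = 0 := by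
      rw [← h0]
      exact Finset.sum_congr rfl fun h _ => congrFun hρ h
    rw [this, smul_zero]
  rw [LinearMap.IsProj.trace (LinearMap.IsIdempotentElem.isProj_range E hidem), Nat.cast_eq_zero,
    Submodule.finrank_eq_zero, LinearMap.range_eq_bot] at htr
  rw [hE, smul_eq_zero, or_iff_right (inv_ne_zero hcard)] at htr
  calc ∑ h : H, (χ : G → ℂ) (h * y) = ∑ h : H, LinearMap.trace ℂ _ (σ h * ρ y) :=
        Finset.sum_congr rfl fun h _ => by
          rw [← hρ]; show LinearMap.trace ℂ _ (ρ ((h : G) * y)) = _; rw [map_mul]; rfl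
    _ = 0 := by rw [← map_sum, ← Finset.sum_mul, htr, zero_mul, map_zero]

/-- The values at an involution are integers. -/
theorem exists_int_involution (χ : IrrCharacter G) {s : G} (hs : orderOf s = 2) {f : ℤ}
    (hf : (χ : G → ℂ) 1 = f) : ∃ v : ℤ, (χ : G → ℂ) s = v := by
  classical
  haveI := Fintype.ofFinite (Subgroup.zpowers s)
  obtain ⟨k, hk⟩ := exists_sum_eq χ (Subgroup.zpowers s)
  rw [Nat.card_zpowers, hs] at hk
  have h1 : (1 : Subgroup.zpowers s) ≠ ⟨s, Subgroup.mem_zpowers s⟩ := fun h => by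
    have h' : (1 : G) = s := congrArg Subtype.val h
    rw [← h', orderOf_one] at hs
    omega
  rw [show (Finset.univ : Finset (Subgroup.zpowers s)) =
      {1, ⟨s, Subgroup.mem_zpowers s⟩} from (Finset.eq_univ_of_card _ (by
        rw [Finset.card_pair h1, ← Nat.card_eq_fintype_card, Nat.card_zpowers, hs])).symm,
    Finset.sum_pair h1] at hk
  refine ⟨2 * k - f, ?_⟩
  push_cast at hk ⊢
  rw [hf] at hk
  linear_combination hk

/-- The sums over a subgroup `P` and over its other coset in `D = P ∪ P s`. -/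
theorem exists_sum_pair (χ : IrrCharacter G) (P : Subgroup G) [Fintype P] {s : G} (hs : s ∉ P)
    (hs2 : s * s ∈ P) (hn : ∀ p ∈ P, s * p * s⁻¹ ∈ P) :
    ∃ k l : ℕ, (∑ p : P, (χ : G → ℂ) p) + ∑ p : P, (χ : G → ℂ) (p * s) =
        2 * (Nat.card P : ℂ) * k ∧
      (∑ p : P, (χ : G → ℂ) p) - ∑ p : P, (χ : G → ℂ) (p * s) = 2 * (Nat.card P : ℂ) * l := by
  classical
  haveI := Fintype.ofFinite G
  have hsi : s⁻¹ * s⁻¹ ∈ P := by rw [← mul_inv_rev]; exact P.inv_mem hs2
  have hn' : ∀ p ∈ P, s⁻¹ * p * s ∈ P := fun p hp => by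
    have h := P.mul_mem (P.mul_mem hsi (hn p hp)) hs2
    rwa [show s⁻¹ * s⁻¹ * (s * p * s⁻¹) * (s * s) = s⁻¹ * p * s by group] at h
  let D : Subgroup G :=
    { carrier := {g | g ∈ P ∨ g * s⁻¹ ∈ P}
      one_mem' := Or.inl P.one_mem
      mul_mem' := by
        intro a b ha hb
        rcases ha with ha | ha <;> rcases hb with hb | hb
        · exact Or.inl (P.mul_mem ha hb)
        · exact Or.inr (by rw [mul_assoc]; exact P.mul_mem ha hb)
        · refine Or.inr ?_
          rw [show a * b * s⁻¹ = a * s⁻¹ * (s * b * s⁻¹) by group]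
          exact P.mul_mem ha (hn b hb)
        · refine Or.inl ?_
          rw [show a * b = a * s⁻¹ * (s * (b * s⁻¹) * s⁻¹) * (s * s) by group]
          exact P.mul_mem (P.mul_mem ha (hn _ hb)) hs2
      inv_mem' := by
        intro a ha
        rcases ha with ha | ha
        · exact Or.inl (P.inv_mem ha)
        · refine Or.inr ?_
          rw [show a⁻¹ * s⁻¹ = s⁻¹ * (a * s⁻¹)⁻¹ * s * (s⁻¹ * s⁻¹) by group]
          exact P.mul_mem (hn' _ (P.inv_mem ha)) hsi }
  have hmemD : ∀ g : G, g ∈ D ↔ g ∈ P ∨ g * s⁻¹ ∈ P := fun g => Iff.rfl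
  have hmuls : ∀ a : D, (a : G) ∉ P → ∀ b : D, (b : G) ∉ P → (a : G) * b ∈ P := by
    intro a ha b hb
    rw [show (a : G) * b = a * s⁻¹ * (s * (b * s⁻¹) * s⁻¹) * (s * s) by group]
    exact P.mul_mem (P.mul_mem (a.2.resolve_left ha) (hn _ (b.2.resolve_left hb))) hs2
  let sgn : D →* ℂˣ :=
    { toFun := fun d => if (d : G) ∈ P then 1 else -1
      map_one' := if_pos P.one_mem
      map_mul' := fun a b => by
        by_cases ha : (a : G) ∈ P <;> by_cases hb : (b : G) ∈ P
        · simp [ha, hb, P.mul_mem ha hb]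
        · have : (a : G) * b ∉ P := fun h => hb ((P.mul_mem_cancel_left ha).mp h)
          simp [ha, hb, this]
        · have : (a : G) * b ∉ P := fun h => ha ((P.mul_mem_cancel_right hb).mp h)
          simp [ha, hb, this]
        · simp [ha, hb, hmuls a ha b hb] }
  haveI := Fintype.ofFinite D
  let e : P ⊕ P ≃ D := Equiv.ofBijective
    (Sum.elim (fun p => ⟨p, Or.inl p.2⟩)
      (fun p => ⟨p * s, Or.inr (by rw [mul_inv_cancel_right]; exact p.2)⟩)) (by
    refine ⟨?_, fun d => ?_⟩
    · rintro (a | a) (b | b) h <;> simp only [Sum.elim_inl, Sum.elim_inr, Subtype.mk.injEq] at h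
      · exact congrArg _ (Subtype.ext h)
      · exact absurd ((P.mul_mem_cancel_left b.2).mp (h ▸ a.2)) hs
      · exact absurd ((P.mul_mem_cancel_left a.2).mp (h.symm ▸ b.2)) hs
      · exact congrArg _ (Subtype.ext (mul_right_cancel h))
    · rcases d.2 with h | h
      · exact ⟨Sum.inl ⟨d, h⟩, rfl⟩
      · exact ⟨Sum.inr ⟨d * s⁻¹, h⟩, Subtype.ext (inv_mul_cancel_right (d : G) s)⟩)
  have hDc : (Nat.card D : ℂ) = 2 * (Nat.card P : ℂ) := by
    rw [← Nat.card_congr e, Nat.card_sum]; push_cast; ring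
  have he : ∀ F : D → ℂ, ∑ d, F d = (∑ p : P, F (e (Sum.inl p))) + ∑ p : P, F (e (Sum.inr p)) :=
    fun F => by rw [← e.sum_comp, Fintype.sum_sum_type]
  obtain ⟨k, hk⟩ := exists_sum_eq χ D
  rw [he, hDc] at hk
  obtain ⟨l, hl⟩ := Chars.isCharacter_classInner_nat
    (Chars.isCharacter_restrict D (Chars.irr_isCharacter χ)) (Chars.isCharacter_hom sgn)
  refine ⟨k, l, hk, ?_⟩
  have hsgn : ∀ p : P, sgn (e (Sum.inl p)) = 1 := fun p => if_pos p.2
  have hsgn' : ∀ p : P, sgn (e (Sum.inr p)) = -1 := fun p =>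
    if_neg fun h => hs ((P.mul_mem_cancel_left p.2).mp h)
  rw [classInner, inv_mul_eq_iff_eq_mul₀ (Nat.cast_ne_zero.mpr Nat.card_pos.ne'), he, hDc] at hl
  simp only [hsgn, hsgn', Units.val_one, Units.val_neg, map_one, map_neg, mul_one, mul_neg,
    Finset.sum_neg_distrib, ← sub_eq_add_neg] at hl
  exact hl

variable [IsSimpleGroup G]

/-- In a simple group the value at an involution is congruent to the degree modulo 4. -/
theorem four_dvd_sub (hG : ¬ IsMulCommutative G) (χ : IrrCharacter G) {s : G}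
    (hs : orderOf s = 2) {f v : ℤ} (hf : (χ : G → ℂ) 1 = f) (hv : (χ : G → ℂ) s = v) :
    (4 : ℤ) ∣ f - v := by
  classical
  obtain ⟨n, ρ, -, hρ⟩ := χ.2
  have hdet : LinearMap.det (ρ s) = 1 := by
    have h := SmallGroups.hom_commGroup_eq_one hG
      ((Units.map (LinearMap.det (M := Fin n → ℂ) (A := ℂ))).comp ρ.toHomUnits) s
    exact congrArg Units.val h
  have hsq : ρ s * ρ s = 1 := by
    rw [← map_mul, ← sq, ← hs, pow_orderOf_eq_one, map_one]
  set E : (Fin n → ℂ) →ₗ[ℂ] (Fin n → ℂ) := (2 : ℂ)⁻¹ • (1 - ρ s) with hE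
  have hidem : IsIdempotentElem E := by
    show E * E = E
    rw [hE, smul_mul_smul_comm]
    have : (1 - ρ s) * (1 - ρ s) = (2 : ℂ) • (1 - ρ s) := by
      rw [mul_sub, mul_one, sub_mul, hsq, one_mul, two_smul]; abel
    rw [this, smul_smul]; norm_num
  have hproj := LinearMap.IsIdempotentElem.isProj_range E hidem
  set W := LinearMap.range E
  set m := Module.finrank ℂ W
  have hW : ∀ w ∈ W, ρ s w = -w := by
    rintro _ ⟨u, rfl⟩
    have h2 : ρ s (ρ s u) = u := LinearMap.congr_fun hsq u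
    simp only [hE, LinearMap.smul_apply, LinearMap.sub_apply, Module.End.one_apply, map_smul,
      map_sub, h2]
    module
  have he : W ≤ W.comap (ρ s) := fun w hw => by
    show ρ s w ∈ W
    rw [hW w hw]
    exact W.neg_mem hw
  rw [LinearMap.det_eq_det_mul_det W (ρ s) he,
    show (ρ s).restrict he = (-1 : ℂ) • LinearMap.id from
      LinearMap.ext fun w => Subtype.ext (by
        rw [LinearMap.restrict_apply]
        simpa using hW w w.2),
    show W.mapQ W (ρ s) he = LinearMap.id from by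
      refine Submodule.linearMap_qext _ (LinearMap.ext fun w => ?_)
      show Submodule.Quotient.mk (ρ s w) = Submodule.Quotient.mk w
      rw [Submodule.Quotient.eq]
      refine ⟨(-2 : ℂ) • w, ?_⟩
      simp only [hE, LinearMap.smul_apply, LinearMap.sub_apply, Module.End.one_apply, map_smul]
      module,
    LinearMap.det_smul, LinearMap.det_id, LinearMap.det_id, mul_one, mul_one] at hdet
  obtain ⟨j, hj⟩ : Even m := by
    by_contra hodd
    rw [(Nat.not_even_iff_odd.mp hodd).neg_one_pow] at hdet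
    norm_num at hdet
  have htr := LinearMap.IsProj.trace hproj
  rw [hE, map_smul, map_sub, LinearMap.trace_one, Module.finrank_fin_fun] at htr
  have h1 : (χ : G → ℂ) 1 = n := by
    rw [← hρ, Representation.char_one, Module.finrank_fin_fun]
  have h2 : LinearMap.trace ℂ _ (ρ s) = (v : ℂ) := by rw [← hv, ← hρ]; rfl
  rw [h2, ← h1, hf, smul_eq_mul] at htr
  refine ⟨j, ?_⟩
  have hm : Module.finrank ℂ W = j + j := hj
  rw [hm] at htr
  apply Int.cast_injective (α := ℂ)
  push_cast at htr ⊢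
  linear_combination 2 * htr

end Cfsg.Agent.Lib.DegreeGraphM12
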