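import Mathlib
import Cfsg.Agent.Lib.DegreeGraphM12.Trick
import Cfsg.Agent.Lib.DefectOne.PrincipalStructure
import Cfsg.Agent.Lib.BrauerMap.Principal
import Cfsg.Agent.Lib.CharCount.Basic
import Cfsg.Agent.Lib.Chars.Integral
import Cfsg.Agent.Lib.SmallGroups.PrimeSylow

/-!
The principal 11-block of a simple group.
-/

set_option autoImplicit false
set_option linter.style.haveILetI false

namespace Cfsg.Agent.Lib.DegreeGraphM12

open Cfsg Cfsg.Agent.Lib Subgroup
open Cfsg.Agent.Lib.SmallGroups (centralizer_le_normalizer' hom_commGroup_eq_one)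

universe u

variable {G : Type u} [Group G] [Finite G]

/-- The degree as an integer. -/
noncomputable def dg (χ : IrrCharacter G) : ℤ := (charDegree (χ : G → ℂ) : ℤ)

theorem dg_spec (χ : IrrCharacter G) : (χ : G → ℂ) 1 = (dg χ : ℂ) := by
  rw [dg, Int.cast_natCast, (Chars.charDegree_spec χ).2]

theorem dg_dvd (χ : IrrCharacter G) {n : ℕ} (hn : Nat.card G ∣ n) :
    charDegree (χ : G → ℂ) ∣ n := by
  obtain ⟨d, -, hd, hdn⟩ := Chars.irr_degree_dvd_card χ
  rw [show charDegree (χ : G → ℂ) = d from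
    Nat.cast_injective (R := ℂ) ((Chars.charDegree_spec χ).2.symm.trans hd)]
  exact hdn.trans hn

variable [IsSimpleGroup G]

theorem eq_trivial_of_degree_one (hG : ¬ IsMulCommutative G) (χ : IrrCharacter G)
    (h : charDegree (χ : G → ℂ) = 1) : χ = Chars.trivialIrr G := by
  obtain ⟨φ, hφ⟩ := Chars.exists_hom_of_degree_one (Chars.irr_isCharacter χ)
    (by rw [(Chars.charDegree_spec χ).2, h, Nat.cast_one])
  refine Subtype.ext (funext fun g => ?_)
  rw [show (χ : G → ℂ) g = (φ g : ℂ) from congrFun hφ g, hom_commGroup_eq_one hG φ g]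
  simp

/-- A non-constant irreducible character of a simple group is faithful. -/
theorem eq_one_of_val (χ : IrrCharacter G) {x y : G}
    (hx : (χ : G → ℂ) x ≠ (χ : G → ℂ) 1) (hy : (χ : G → ℂ) y = (χ : G → ℂ) 1) : y = 1 := by
  obtain ⟨n, ρ, -, hρ⟩ := χ.2
  have hiff : ∀ g, ρ g = 1 ↔ (χ : G → ℂ) g = (χ : G → ℂ) 1 := fun g => by
    rw [Chars.rep_eq_one_iff, hρ]
  rcases (MonoidHom.normal_ker ρ.toHomUnits).eq_bot_or_eq_top with h | h
  · have : y ∈ ρ.toHomUnits.ker := MonoidHom.mem_ker.mpr (Units.ext ((hiff y).mpr hy))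
    rwa [h, mem_bot] at this
  · have : x ∈ ρ.toHomUnits.ker := h ▸ mem_top x
    exact absurd ((hiff x).mp (congrArg Units.val (MonoidHom.mem_ker.mp this))) hx

variable [Fact (Nat.Prime 11)]

/-- The principal block at 11: the ordinary part without the trivial character, and the others. -/
theorem exists_block [Fintype G] (hG : ¬ IsMulCommutative G) (P : Sylow 11 G)
    (hP : Nat.card (P : Subgroup G) = 11) {e : ℕ} (he2 : 2 ≤ e) (he : e ≤ 10)
    (hN : Nat.card (normalizer ((P : Subgroup G) : Set G)) =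
      e * Nat.card (centralizer ((P : Subgroup G) : Set G))) :
    ∃ (A B : Finset (IrrCharacter G)) (δ : IrrCharacter G → ℤ) (ε : ℤ),
      Disjoint A B ∧ A.card + 1 = e ∧ B.card = 10 / e ∧
      (∀ χ ∈ A, χ ≠ Chars.trivialIrr G ∧ (δ χ = 1 ∨ δ χ = -1) ∧ (11 : ℤ) ∣ dg χ - δ χ ∧
        ∀ x ∈ (P : Subgroup G), x ≠ 1 →
          ∀ y ∈ centralizer ((P : Subgroup G) : Set G), ¬ 11 ∣ orderOf y →
            (χ : G → ℂ) (x * y) = (δ χ : ℂ)) ∧
      (ε = 1 ∨ ε = -1) ∧
      (∀ θ ∈ B, θ ≠ Chars.trivialIrr G ∧ (11 : ℤ) ∣ dg θ - ε * e) ∧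
      ∀ θ ∈ B, ∀ g : G, ¬ 11 ∣ orderOf g →
        (ε : ℂ) * (θ : G → ℂ) g = 1 + ∑ χ ∈ A, (δ χ : ℂ) * (χ : G → ℂ) g := by
  classical
  obtain ⟨M, hM⟩ := CharCount.exists_isPModular 11 (by norm_num)
  haveI := Blocks.isPModular_isPrime hM
  have hrel : (centralizer ((P : Subgroup G) : Set G)).relIndex
      (normalizer ((P : Subgroup G) : Set G)) = e := by
    refine Nat.eq_of_mul_eq_mul_right (Nat.card_pos (α := centralizer ((P : Subgroup G) : Set G))) ?_
    rw [← hN, mul_comm, Subgroup.relIndex]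
    conv_lhs => rw [← Nat.card_congr (subgroupOfEquivOfLe (centralizer_le_normalizer' _)).toEquiv]
    exact card_mul_index _
  obtain ⟨A, B, δ, ε, hblock, hdisj, hA, hB, hA', hε, hB', hrel'⟩ :=
    DefectOne.exists_principal hM P hP e hrel
  set t := Chars.trivialIrr G with ht
  have ht1 : dg t = 1 := by
    rw [dg, show charDegree (t : G → ℂ) = 1 by simp [charDegree, ht]]
    rfl
  by_cases htB : t ∈ B
  · -- the trivial character is the only exceptional one
    have hc := hB' t htB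
    rw [← dg, ht1, Int.modEq_iff_dvd] at hc
    have he10 : e = 10 ∧ ε = -1 := by rcases hε with rfl | rfl <;> push_cast at hc <;> omega
    obtain ⟨rfl, rfl⟩ := he10
    have hsum : ∀ g : G, ¬ 11 ∣ orderOf g →
        (-1 : ℂ) = ∑ χ ∈ A, (δ χ : ℂ) * (χ : G → ℂ) g := fun g hg => by
      rw [← hrel' t htB g hg, ht, Chars.trivialIrr_apply]
      push_cast
      ring
    obtain ⟨θ, hθ⟩ := Finset.card_pos.mp (show 0 < A.card by omega)
    have hne : ∀ χ ∈ A, χ ≠ t := fun χ hχ h => Finset.disjoint_left.mp hdisj hχ (h ▸ htB)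
    obtain ⟨h1, h2, -⟩ := hA' θ hθ
    refine ⟨A.erase θ, {θ}, δ, -δ θ, ?_, ?_, by simp, fun χ hχ => ?_, by omega, fun φ hφ => ?_,
      fun φ hφ g hg => ?_⟩
    · simp
    · rw [Finset.card_erase_add_one hθ, hA]
    · obtain ⟨-, hχA⟩ := Finset.mem_erase.mp hχ
      obtain ⟨k1, k2, k3⟩ := hA' χ hχA
      exact ⟨hne χ hχA, k1, Int.modEq_iff_dvd.mp k2.symm, k3⟩
    · rw [Finset.mem_singleton] at hφ
      subst hφ
      refine ⟨hne _ hθ, ?_⟩
      have h3 := Int.modEq_iff_dvd.mp h2.symm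
      rw [← dg] at h3
      push_cast at h3 ⊢
      omega
    · rw [Finset.mem_singleton] at hφ
      subst hφ
      have h3 := hsum g hg
      rw [← Finset.add_sum_erase _ _ hθ] at h3
      push_cast
      linear_combination h3
  have htA : t ∈ A := by
    have h := BrauerMap.trivialIrr_mem_principalBlock (G := G) M
    rw [← ht, hblock] at h
    exact h.resolve_right htB
  obtain ⟨x, hx, hx1⟩ : ∃ x ∈ (P : Subgroup G), x ≠ 1 := by
    by_contra! hall
    have : (P : Subgroup G) = ⊥ := (Subgroup.eq_bot_iff_forall _).mpr hall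
    rw [this, card_bot] at hP
    omega
  have hδ : δ t = 1 := by
    have h := (hA' t htA).2.2 x hx hx1 1 (one_mem _) (by rw [orderOf_one]; norm_num)
    rw [ht, Chars.trivialIrr_apply, ← Int.cast_one] at h
    exact (Int.cast_injective h).symm
  refine ⟨A.erase t, B, δ, ε, ?_, ?_, hB, fun χ hχ => ?_, hε, fun θ hθ => ⟨?_, ?_⟩, fun θ hθ g hg => ?_⟩
  · exact Finset.disjoint_of_subset_left (Finset.erase_subset _ _) hdisj
  · rw [Finset.card_erase_add_one htA, hA]
  · obtain ⟨hne, hχA⟩ := Finset.mem_erase.mp hχ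
    obtain ⟨h1, h2, h3⟩ := hA' χ hχA
    exact ⟨hne, h1, Int.modEq_iff_dvd.mp h2.symm, h3⟩
  · exact fun h => htB (h ▸ hθ)
  · exact Int.modEq_iff_dvd.mp (hB' θ hθ).symm
  · rw [hrel' θ hθ g hg, ← Finset.add_sum_erase _ _ htA, hδ, ht, Chars.trivialIrr_apply]
    push_cast
    ring

end Cfsg.Agent.Lib.DegreeGraphM12
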