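import Cfsg.Agent.Lib.Recog95040.Cert240
set_option autoImplicit false
namespace Cfsg.Agent.Lib.DegreeGraphM12
open Cfsg.Agent.Lib.Recog95040
/-- The statement at a solution. -/
def leaf (L : List It) : Bool :=
  !(decide (Cert.sumA L % (10 * (240 * 240)) = 0) && decide (0 ≤ Cert.sumS L)) ||
    L.any (fun e => decide (e.a % 2 = 1)) ||
      (L.any (fun e => decide (e.d % 55 = 0)) && L.any (fun e => decide (e.d % 33 = 0)))

theorem check240a : Engine.check [true, true, true, true, true, true]
    [false, false, false, false, false, false, false, false, false, false, false, false, false, false, false, false, false] It.vec leaf Cert.tree240a Cert.rest240a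
    [95039, 36, 36, 239, 18, 1, -2, -2, -1, -2, -4, -2, -2, -4, -4, -2, -190080] [] = true := by decide +kernel

theorem check240b : Engine.check [true, true, true, true, true, true]
    [false, false, false, false, false, false, false, false, false, false, false, false, false, false, false, false, false] It.vec leaf Cert.tree240b Cert.rest240b
    [95039, 36, 36, 239, 18, 1, -2, -2, -1, -2, -4, -2, -2, -4, -4, -2, -190080] [] = true := by decide +kernel

end Cfsg.Agent.Lib.DegreeGraphM12
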