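import Mathlib
import Cfsg.Agent.Lib.DegreeGraphM12.Block
import Cfsg.Agent.Lib.SmallGroups.Below6232.Tools

/-!
Involutions inverting a Sylow 11-subgroup; the case of a normaliser inducing only the inversion.
-/

set_option autoImplicit false
set_option linter.style.haveILetI false

namespace Cfsg.Agent.Lib.DegreeGraphM12

open Cfsg Cfsg.Agent.Lib Subgroup
open Cfsg.Agent.Lib.SmallGroups (centralizer_le_normalizer' le_centralizer_of_prime)

universe u

variable {G : Type u} [Group G] [Finite G] [Fact (Nat.Prime 11)] (P : Sylow 11 G)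
  (hP : Nat.card (P : Subgroup G) = 11)

include hP

theorem orderOf_mem {p : G} (hp : p ∈ (P : Subgroup G)) (hp1 : p ≠ 1) : orderOf p = 11 := by
  have h : orderOf p ∣ 11 := hP ▸ Subgroup.orderOf_dvd_natCard (P : Subgroup G) hp
  exact ((Nat.dvd_prime (Fact.out)).mp h).resolve_left fun h1 => hp1 (orderOf_eq_one_iff.mp h1)

theorem zpowers_eq {p : G} (hp : p ∈ (P : Subgroup G)) (hp1 : p ≠ 1) :
    zpowers p = (P : Subgroup G) :=
  eq_of_le_of_card_ge (zpowers_le.mpr hp) (by rw [hP, Nat.card_zpowers, orderOf_mem P hP hp hp1])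

theorem not_mem_of_involution {s : G} (hs : orderOf s = 2) : s ∉ (P : Subgroup G) := fun h => by
  have : orderOf s ∣ 11 := hP ▸ Subgroup.orderOf_dvd_natCard (P : Subgroup G) h
  rw [hs] at this
  norm_num at this

/-- An involution of the normaliser outside the centraliser inverts. -/
theorem inverts {s : G} (hs : orderOf s = 2)
    (hsN : s ∈ normalizer ((P : Subgroup G) : Set G))
    (hsC : s ∉ centralizer ((P : Subgroup G) : Set G)) :
    ∀ p ∈ (P : Subgroup G), s * p * s⁻¹ = p⁻¹ := by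
  intro p hp
  have hss : s * s = 1 := by rw [← sq, ← hs, pow_orderOf_eq_one]
  have hq : s * p * s⁻¹ ∈ (P : Subgroup G) := (mem_normalizer_iff.mp hsN p).mp hp
  set a := p * (s * p * s⁻¹) with ha
  have haP : a ∈ (P : Subgroup G) := (P : Subgroup G).mul_mem hp hq
  have hcomm : Commute p (s * p * s⁻¹) :=
    ((mem_centralizer_iff.mp (le_centralizer_of_prime hP hq) p hp) :
      p * (s * p * s⁻¹) = s * p * s⁻¹ * p)
  have hsa : s * a = a * s := by
    have : s * a * s⁻¹ = a := by
      calc s * a * s⁻¹ = s * p * s⁻¹ * ((s * s) * p * (s * s)⁻¹) := by rw [ha]; group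
        _ = s * p * s⁻¹ * p := by rw [hss, one_mul, inv_one, mul_one]
        _ = a := hcomm.eq.symm
    conv_rhs => rw [← this]
    rw [inv_mul_cancel_right]
  have ha1 : a = 1 := by
    by_contra ha1
    refine hsC (mem_centralizer_iff.mpr fun q hq' => ?_)
    rw [SetLike.mem_coe, ← zpowers_eq P hP haP ha1, mem_zpowers_iff] at hq'
    obtain ⟨k, rfl⟩ := hq'
    exact ((show Commute s a from hsa).zpow_right k).eq.symm
  rw [ha, mul_eq_one_iff_inv_eq] at ha1
  exact ha1.symm

/-- All involutions of the inverted coset are conjugate. -/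
theorem isConj_mul {s : G} (hinv : ∀ p ∈ (P : Subgroup G), s * p * s⁻¹ = p⁻¹) {p : G}
    (hp : p ∈ (P : Subgroup G)) : IsConj s (p * s) := by
  refine isConj_iff.mpr ⟨p ^ 6, ?_⟩
  have h6 : p ^ 6 ∈ (P : Subgroup G) := (P : Subgroup G).pow_mem hp 6
  have h11 : p ^ 11 = 1 := by
    have h := pow_card_eq_one' (x := (⟨p, hp⟩ : (P : Subgroup G)))
    rw [hP] at h
    exact congrArg Subtype.val h
  have h1 := hinv _ ((P : Subgroup G).inv_mem h6)
  rw [inv_inv] at h1
  calc p ^ 6 * s * (p ^ 6)⁻¹ = p ^ 6 * (s * (p ^ 6)⁻¹ * s⁻¹) * s := by group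
    _ = p ^ 12 * s := by rw [h1, ← pow_add]
    _ = p * s := by rw [pow_succ, h11, one_mul]

theorem sum_coset [Fintype G] [Fintype (P : Subgroup G)] (χ : IrrCharacter G) {s : G}
    (hinv : ∀ p ∈ (P : Subgroup G), s * p * s⁻¹ = p⁻¹) :
    ∑ p : (P : Subgroup G), (χ : G → ℂ) (p * s) = 11 * (χ : G → ℂ) s := by
  rw [Finset.sum_congr rfl fun (p : (P : Subgroup G)) _ =>
      show (χ : G → ℂ) (p * s) = (χ : G → ℂ) s from by
        obtain ⟨c, hc⟩ := isConj_iff.mp (isConj_mul P hP hinv p.2)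
        rw [← hc]
        exact Chars.irr_isClassFunction χ s c,
    Finset.sum_const, Finset.card_univ, ← Nat.card_eq_fintype_card, hP, nsmul_eq_mul]
  norm_num

theorem sum_block [Fintype (P : Subgroup G)] (χ : IrrCharacter G) {δ : ℤ} {y : G}
    (hval : ∀ x ∈ (P : Subgroup G), x ≠ 1 → (χ : G → ℂ) (x * y) = (δ : ℂ)) :
    ∑ p : (P : Subgroup G), (χ : G → ℂ) (p * y) = (χ : G → ℂ) y + 10 * δ := by
  classical
  rw [← Finset.add_sum_erase _ _ (Finset.mem_univ (1 : (P : Subgroup G))), OneMemClass.coe_one,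
    one_mul, Finset.sum_congr rfl fun (p : (P : Subgroup G)) hp => hval (p : G) p.2 fun h =>
      Finset.ne_of_mem_erase hp (Subtype.ext h),
    Finset.sum_const, Finset.card_erase_of_mem (Finset.mem_univ _), Finset.card_univ,
    ← Nat.card_eq_fintype_card, hP, nsmul_eq_mul]
  norm_num

omit hP in
/-- Consecutive numbers dividing 95040. -/
theorem consecutive_divisors {f : ℕ} (h2 : 2 ≤ f) (hf : f ∣ 95040) :
    ((f + 1) ∣ 95040 → f % 11 ≠ 1) ∧ ((f - 1) ∣ 95040 → f % 11 = 10 → f = 10) := by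
  have key1 : ∀ g : ℕ, g < 310 → (g < 2 ∨ 95040 % g ≠ 0 ∨ 95040 % (g + 1) ≠ 0 ∨ g % 11 ≠ 1) := by
    decide +kernel
  have key2 : ∀ g : ℕ, g < 310 →
      (g < 2 ∨ 95040 % g ≠ 0 ∨ 95040 % (g - 1) ≠ 0 ∨ g % 11 ≠ 10 ∨ g = 10) := by decide +kernel
  have h0 := Nat.mod_eq_zero_of_dvd hf
  by_cases hlt : f < 310
  · refine ⟨fun h => ?_, fun h => ?_⟩ <;> have := Nat.mod_eq_zero_of_dvd h
    · have := key1 f hlt
      omega
    · have := key2 f hlt
      omega
  · constructor <;> intro h
    · have := Nat.le_of_dvd (by norm_num) (Nat.Coprime.mul_dvd_of_dvd_of_dvd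
        (Nat.coprime_self_add_right.mpr (Nat.coprime_one_right f)) hf h)
      nlinarith
    · obtain ⟨g, rfl⟩ : ∃ g, f = g + 1 := ⟨f - 1, by omega⟩
      rw [Nat.add_sub_cancel] at h
      have := Nat.le_of_dvd (by norm_num) (Nat.Coprime.mul_dvd_of_dvd_of_dvd
        (Nat.coprime_self_add_right.mpr (Nat.coprime_one_right g)) h hf)
      nlinarith

/-- No simple group of order dividing 95040 has a normaliser inducing just the inversion. -/
theorem false_of_two [IsSimpleGroup G] (hG : ¬ IsMulCommutative G) (hn : Nat.card G ∣ 95040)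
    (hN : Nat.card (normalizer ((P : Subgroup G) : Set G)) =
      2 * Nat.card (centralizer ((P : Subgroup G) : Set G))) : False := by
  classical
  haveI := Fintype.ofFinite G
  haveI := Fintype.ofFinite (P : Subgroup G)
  obtain ⟨A, B, δ, ε, -, hA, hB, hA', hε, hB', hrel⟩ :=
    exists_block hG P hP le_rfl (by norm_num) hN
  obtain ⟨χ, rfl⟩ := Finset.card_eq_one.mp (show A.card = 1 by omega)
  obtain ⟨θ, hθ⟩ := Finset.card_pos.mp (show 0 < B.card by omega)
  obtain ⟨hne, hδ, hcong, hval⟩ := hA' χ (Finset.mem_singleton_self _)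
  have h1 := hrel θ hθ 1 (by rw [orderOf_one]; norm_num)
  rw [Finset.sum_singleton, dg_spec, dg_spec] at h1
  have h1' : ε * dg θ = 1 + δ χ * dg χ := by exact_mod_cast h1
  have hf1 : charDegree (χ : G → ℂ) ≠ 1 := fun h => hne (eq_trivial_of_degree_one hG χ h)
  have hf0 := (Chars.charDegree_spec χ).1
  have hd0 := (Chars.charDegree_spec θ).1
  obtain ⟨k1, k2⟩ := consecutive_divisors (by omega) (dg_dvd χ hn)
  have hd := dg_dvd θ hn
  simp only [dg] at h1' hcong
  obtain ⟨hf, hδ1⟩ : charDegree (χ : G → ℂ) = 10 ∧ δ χ = -1 := by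
    rcases hδ with h | h <;> rw [h] at h1' hcong
    · exfalso
      refine k1 ?_ (by omega)
      rcases hε with rfl | rfl
      · rwa [show charDegree (χ : G → ℂ) + 1 = charDegree (θ : G → ℂ) by omega]
      · omega
    · refine ⟨k2 ?_ (by omega), h⟩
      rcases hε with rfl | rfl
      · omega
      · rwa [show charDegree (χ : G → ℂ) - 1 = charDegree (θ : G → ℂ) by omega]
  have hdeg : (χ : G → ℂ) 1 = 10 := by rw [(Chars.charDegree_spec χ).2, hf]; norm_num
  have hz : ∑ p : (P : Subgroup G), (χ : G → ℂ) p = 0 := by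
    have h := sum_block P hP χ (δ := δ χ) (y := 1) fun x hx hx1 =>
      hval x hx hx1 1 (one_mem _) (by rw [orderOf_one]; norm_num)
    simp only [mul_one] at h
    rw [h, hdeg, hδ1]; norm_num
  obtain ⟨x, hx, hx1⟩ : ∃ x ∈ (P : Subgroup G), x ≠ 1 := by
    by_contra! hall
    rw [(Subgroup.eq_bot_iff_forall _).mpr hall, card_bot] at hP
    omega
  have hxne : (χ : G → ℂ) x ≠ (χ : G → ℂ) 1 := by
    have := hval x hx hx1 1 (one_mem _) (by rw [orderOf_one]; norm_num)
    rw [mul_one] at this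
    rw [this, hdeg, hδ1]; norm_num
  -- the centraliser is the Sylow subgroup
  set C := centralizer ((P : Subgroup G) : Set G) with hCdef
  have hreg : ∀ y ∈ C, ¬ 11 ∣ orderOf y → y = 1 := by
    intro y hy h11
    have h := sum_coset_eq_zero χ _ hz y
    rw [sum_block P hP χ fun p hp hp1 => hval p hp hp1 y hy h11, hδ1] at h
    refine eq_one_of_val χ hxne ?_
    rw [hdeg]
    push_cast at h
    linear_combination h
  have hC : Nat.card C = 11 := by
    refine Nat.dvd_antisymm ?_ (hP ▸ card_dvd_of_le (le_centralizer_of_prime hP))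
    obtain ⟨m, hm⟩ := hP ▸ card_dvd_of_le (le_centralizer_of_prime hP : (P : Subgroup G) ≤ C)
    rw [hm]
    suffices m = 1 by rw [this]
    by_contra hm1
    obtain ⟨q, hq, hqm⟩ := Nat.exists_prime_and_dvd hm1
    haveI := Fact.mk hq
    have hq11 : q ≠ 11 := by
      rintro rfl
      have := ((Nat.mul_dvd_mul_left 11 hqm).trans (dvd_of_eq hm.symm)).trans
        ((card_subgroup_dvd_card C).trans hn)
      norm_num at this
    obtain ⟨⟨y, hy⟩, hyo⟩ := exists_prime_orderOf_dvd_card' (G := C) q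
      (hm ▸ dvd_mul_of_dvd_right hqm 11)
    rw [Subgroup.orderOf_mk] at hyo
    have hy1 := hreg y hy (by
      rw [hyo]
      exact fun h => hq11 (((Nat.prime_dvd_prime_iff_eq (Fact.out) hq).mp h).symm))
    rw [hy1, orderOf_one] at hyo
    exact hq.one_lt.ne hyo
  rw [hC] at hN
  haveI : Fact (Nat.Prime 2) := ⟨Nat.prime_two⟩
  obtain ⟨⟨s, hsN⟩, hs⟩ := exists_prime_orderOf_dvd_card'
    (G := normalizer ((P : Subgroup G) : Set G)) 2 (hN ▸ dvd_mul_right 2 11)
  rw [Subgroup.orderOf_mk] at hs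
  have hsC : s ∉ C := fun h => by
    have := Subgroup.orderOf_dvd_natCard C h
    rw [hs, hC] at this
    norm_num at this
  have hinv := inverts P hP hs hsN hsC
  have h0 := sum_coset_eq_zero χ _ hz s
  rw [sum_coset P hP χ hinv, mul_eq_zero] at h0
  have h4 := four_dvd_sub hG χ hs (f := 10) (v := 0) (by rw [hdeg]; norm_num)
    (by rw [h0.resolve_left (by norm_num)]; norm_num)
  norm_num at h4

end Cfsg.Agent.Lib.DegreeGraphM12
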