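import Mathlib
import Cfsg.Agent.Lib.DegreeGraphM12.Block
import Cfsg.Agent.Lib.SmallGroups.Below6232.Tools

/-!
Subgroups above the normaliser of a Sylow 11-subgroup with 144 conjugates.
-/

set_option autoImplicit false
set_option linter.style.haveILetI false

namespace Cfsg.Agent.Lib.DegreeGraphM12

open Cfsg Cfsg.Agent.Lib Subgroup MulAction
open Cfsg.Agent.Lib.SmallGroups (centralizer_le_normalizer' le_centralizer_of_prime)

universe u

variable {G : Type u} [Group G] [Finite G] [Fact (Nat.Prime 11)] (P : Sylow 11 G)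
  (hP : Nat.card (P : Subgroup G) = 11)

include hP

/-- A subgroup of index 12 makes the Sylow subgroup self-centralising. -/
theorem card_centralizer_of_index_twelve [IsSimpleGroup G] {H : Subgroup G} (hH : H.index = 12) :
    Nat.card (centralizer ((P : Subgroup G) : Set G)) = 11 := by
  have hHt : H ≠ ⊤ := by rintro rfl; rw [index_top] at hH; omega
  haveI : FaithfulSMul G (G ⧸ H) :=
    ⟨fun h => SmallGroups.toPermHom_injective hHt (Equiv.ext fun a => h a)⟩
  have hcard : Nat.card (G ⧸ H) = 12 := hH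
  have hf : Nat.card (fixedPoints (P : Subgroup G) (G ⧸ H)) = 1 := by
    have hmod := P.2.card_modEq_card_fixedPoints (G ⧸ H)
    rw [hcard] at hmod
    replace hmod : 12 % 11 = Nat.card (fixedPoints (P : Subgroup G) (G ⧸ H)) % 11 := hmod
    have hle : Nat.card (fixedPoints (P : Subgroup G) (G ⧸ H)) < 12 := by
      rw [← hcard]
      obtain ⟨a, ha⟩ : ∃ a : G ⧸ H, a ∉ fixedPoints (P : Subgroup G) (G ⧸ H) := by
        by_contra! hall
        have hbot : (P : Subgroup G) = ⊥ := (Subgroup.eq_bot_iff_forall _).mpr fun g hg =>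
          eq_of_smul_eq_smul (α := G ⧸ H) fun a =>
            (show g • a = a from hall a ⟨g, hg⟩).trans (one_smul G a).symm
        rw [hbot, card_bot] at hP
        omega
      exact Finite.card_subtype_lt (p := fun b => b ∈ fixedPoints (P : Subgroup G) (G ⧸ H)) ha
    omega
  have h := SmallGroups.card_centralizer_dvd P hP hf (k := 1) (by rw [hcard])
  refine Nat.dvd_antisymm (by simpa using h) ?_
  have := card_dvd_of_le (le_centralizer_of_prime hP : (P : Subgroup G) ≤ _)
  rwa [hP] at this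

/-- A proper subgroup above a normaliser of index 144 is that normaliser or has index 12. -/
theorem eq_or_index_twelve (hidx : (normalizer ((P : Subgroup G) : Set G)).index = 144)
    {H : Subgroup G} (hle : normalizer ((P : Subgroup G) : Set G) ≤ H) (hH : H ≠ ⊤) :
    H = normalizer ((P : Subgroup G) : Set G) ∨ H.index = 12 := by
  set N := normalizer ((P : Subgroup G) : Set G) with hNdef
  obtain ⟨h1, h2, -, -, -⟩ :=
    SmallGroups.Below6232.sylow_count_of_le P (H := H) (le_normalizer.trans hle)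
  rw [← hNdef, inf_eq_left.mpr hle] at h2
  set r := Nat.card (Sylow 11 H)
  have hHi := H.card_mul_index
  have hNi := N.card_mul_index
  rw [hidx, ← hHi, h2] at hNi
  have hr : r * H.index = 144 := by
    refine Nat.eq_of_mul_eq_mul_left (Nat.card_pos (α := N)) ?_
    rw [hNi]; ring
  have hidx1 : H.index ≠ 1 := fun h => hH (index_eq_one.mp h)
  have key : ∀ k : ℕ, k < 145 → 144 % k ≠ 0 ∨ k % 11 ≠ 1 ∨ k = 1 ∨ k = 12 ∨ k = 144 := by
    decide +kernel
  have hrlt : r < 145 := Nat.lt_succ_of_le (Nat.le_of_dvd (by norm_num) ⟨_, hr.symm⟩)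
  have hr0 : 144 % r = 0 := Nat.mod_eq_zero_of_dvd ⟨_, hr.symm⟩
  rcases key r hrlt with h | h | h | h | h
  · exact absurd hr0 h
  · exact absurd h1 h
  · exact Or.inl (eq_of_le_of_card_ge hle (by rw [h2, h, one_mul])).symm
  · rw [h] at hr; exact Or.inr (by omega)
  · rw [h] at hr; exact absurd (by omega) hidx1

/-- The Sylow subgroup of a small centraliser is normalised by the normaliser. -/
theorem exists_normalized {q k : ℕ} [hq : Fact q.Prime] (hq11 : q ≠ 11)
    (hdiv : q ^ k ∣ Nat.card (centralizer ((P : Subgroup G) : Set G)))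
    (hndiv : ¬ q ^ (k + 1) ∣ Nat.card (centralizer ((P : Subgroup G) : Set G)))
    (hsmall : Nat.card (centralizer ((P : Subgroup G) : Set G)) ∣ 2 * (11 * q ^ k)) :
    ∃ Q : Subgroup G, Q ≤ centralizer ((P : Subgroup G) : Set G) ∧ Nat.card Q = q ^ k ∧
      normalizer ((P : Subgroup G) : Set G) ≤ normalizer (Q : Set G) := by
  set C := centralizer ((P : Subgroup G) : Set G) with hC
  obtain ⟨m, hm⟩ := hdiv
  have hqm : ¬ q ∣ m := fun h => hndiv (by rw [hm, pow_succ]; exact Nat.mul_dvd_mul_left _ h)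
  obtain ⟨S⟩ : Nonempty (Sylow q C) := inferInstance
  have hS : Nat.card (S : Subgroup C) = q ^ k := SmallGroups.card_sylow_eq S hm hqm
  -- the subgroup `P` normalises `S`
  have hPC : (P : Subgroup G) ≤ C := le_centralizer_of_prime hP
  have hPS : (P : Subgroup G).subgroupOf C ≤ normalizer ((S : Subgroup C) : Set C) := fun p hp =>
    centralizer_le_normalizer' _ (mem_centralizer_iff.mpr fun c _ =>
      Subtype.ext (mem_centralizer_iff.mp c.2 p (mem_subgroupOf.mp hp)).symm)
  have h11 : 11 * q ^ k ∣ Nat.card (normalizer ((S : Subgroup C) : Set C)) := by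
    refine Nat.Coprime.mul_dvd_of_dvd_of_dvd (((Nat.coprime_primes (by norm_num) hq.out).mpr
      (Ne.symm hq11)).pow_right k) ?_ (hS ▸ card_dvd_of_le le_normalizer)
    have h := card_dvd_of_le hPS
    rwa [Nat.card_congr (subgroupOfEquivOfLe hPC).toEquiv, hP] at h
  have hmul := SmallGroups.card_normalizer_sylow_mul S
  have hr2 : Nat.card (Sylow q C) ∣ 2 := by
    obtain ⟨a, ha⟩ := h11
    obtain ⟨b, hb⟩ := hsmall
    rw [ha] at hmul
    refine ⟨a * b, Nat.eq_of_mul_eq_mul_left (Nat.mul_pos (by norm_num : 0 < 11)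
      (pow_pos hq.out.pos k)) ?_⟩
    calc 11 * q ^ k * 2 = 2 * (11 * q ^ k) := by ring
      _ = Nat.card C * b := hb
      _ = _ := by rw [← hmul]; ring
  have hone : Nat.card (Sylow q C) = 1 := by
    have hmod := card_sylow_modEq_one q C
    rcases (Nat.dvd_prime Nat.prime_two).mp hr2 with h | h
    · exact h
    · rw [h] at hmod
      have := hmod.symm.dvd'
      norm_num at this
      exact absurd this hq.out.ne_one
  haveI : Subsingleton (Sylow q C) := (Nat.card_eq_one_iff_unique.mp hone).1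
  set Q := (S : Subgroup C).map C.subtype with hQ
  have hQc : Nat.card Q = q ^ k := by rw [hQ, card_map_of_injective C.subtype_injective, hS]
  refine ⟨Q, map_subtype_le _, hQc, fun g hg => ?_⟩
  rw [mem_normalizer_iff_map_conj_eq]
  set Q' := Q.map (MulAut.conj g).toMonoidHom with hQ'
  have hQ'c : Nat.card Q' = q ^ k := by
    rw [hQ', card_map_of_injective (MulAut.conj g).injective, hQc]
  have hle : Q' ≤ C := by
    rintro _ ⟨a, ha, rfl⟩
    rw [hC, mem_centralizer_iff]
    intro p hp
    have hp' : g⁻¹ * p * g ∈ (P : Subgroup G) := (mem_normalizer_iff''.mp hg p).mp hp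
    have := mem_centralizer_iff.mp (map_subtype_le _ ha : a ∈ C) _ hp'
    calc p * (g * a * g⁻¹) = g * ((g⁻¹ * p * g) * a) * g⁻¹ := by group
      _ = g * (a * (g⁻¹ * p * g)) * g⁻¹ := by rw [this]
      _ = g * a * g⁻¹ * p := by group
  obtain ⟨R, hR⟩ := (IsPGroup.of_card (p := q) (n := k) (G := Q'.subgroupOf C)
    (by rw [Nat.card_congr (subgroupOfEquivOfLe hle).toEquiv, hQ'c])).exists_le_sylow
  rw [Subsingleton.elim R S] at hR
  show Q' = Q
  refine eq_of_le_of_card_ge (fun a ha => ⟨⟨a, hle ha⟩, hR (mem_subgroupOf.mpr ha), rfl⟩) ?_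
  rw [hQ'c, hQc]

variable [IsSimpleGroup G]

/-- The small centraliser leads to a subgroup of index 12. -/
theorem false_of_small (hG : ¬ IsMulCommutative G)
    (hidx : (normalizer ((P : Subgroup G) : Set G)).index = 144)
    {q k : ℕ} [hq : Fact q.Prime] (hq11 : q ≠ 11) (hk : k ≠ 0)
    (hdiv : q ^ k ∣ Nat.card (centralizer ((P : Subgroup G) : Set G)))
    (hndiv : ¬ q ^ (k + 1) ∣ Nat.card (centralizer ((P : Subgroup G) : Set G)))
    (hN : ¬ q ^ (k + 1) ∣ Nat.card (normalizer ((P : Subgroup G) : Set G)))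
    (hn : q ^ (k + 1) ∣ Nat.card G)
    (hsmall : Nat.card (centralizer ((P : Subgroup G) : Set G)) ∣ 2 * (11 * q ^ k)) : False := by
  obtain ⟨Q, hQC, hQc, hle⟩ := exists_normalized P hP hq11 hdiv hndiv hsmall
  have hQ1 : 1 < Nat.card Q := hQc ▸ Nat.one_lt_pow hk hq.out.one_lt
  have hQt : normalizer (Q : Set G) ≠ ⊤ := fun h => by
    rcases (normalizer_eq_top_iff.mp h).eq_bot_or_eq_top with hb | ht
    · rw [hb, card_bot] at hQ1
      omega
    · rw [ht, card_top] at hQc
      have : (11 : ℕ) ∣ q ^ k := hQc ▸ hP ▸ card_subgroup_dvd_card (P : Subgroup G)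
      exact hq11 ((Nat.prime_dvd_prime_iff_eq (Fact.out) hq.out).mp
        ((Fact.out : Nat.Prime 11).dvd_of_dvd_pow this)).symm
  rcases eq_or_index_twelve P hP hidx hle hQt with h | h
  · exact hN (h ▸ Sylow.prime_pow_dvd_card_normalizer hn hQc)
  · have h11 := card_centralizer_of_index_twelve P hP h
    have : q ^ k ∣ 11 := h11 ▸ hdiv
    exact hq11 ((Nat.prime_dvd_prime_iff_eq hq.out (Fact.out)).mp ((dvd_pow_self q hk).trans this))

end Cfsg.Agent.Lib.DegreeGraphM12
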