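import Mathlib
import Cfsg.Agent.Lib.DegreeGraphM12.Inverted
import Cfsg.Agent.Lib.DegreeGraphM12.Normalizer

/-!
Normalisers inducing the full automorphism group of the Sylow 11-subgroup: one case of order 31680.
-/

set_option autoImplicit false
set_option linter.style.haveILetI false

namespace Cfsg.Agent.Lib.DegreeGraphM12

open Cfsg Cfsg.Agent.Lib Subgroup
open Cfsg.Agent.Lib.SmallGroups (centralizer_le_normalizer' le_centralizer_of_prime)
open scoped ComplexConjugate

universe u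

variable {G : Type u} [Group G] [Finite G] [IsSimpleGroup G] [Fact (Nat.Prime 11)]
  (hG : ¬ IsMulCommutative G) (P : Sylow 11 G) (hP : Nat.card (P : Subgroup G) = 11)

include hG hP

/-- The ten non-trivial characters of the principal block. -/
theorem exists_ten [Fintype G] (hN : Nat.card (normalizer ((P : Subgroup G) : Set G)) =
      10 * Nat.card (centralizer ((P : Subgroup G) : Set G))) :
    ∃ (S : Finset (IrrCharacter G)) (σ : IrrCharacter G → ℤ) (θ : IrrCharacter G),
      θ ∈ S ∧ S.card = 10 ∧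
      (∀ χ ∈ S, χ ≠ Chars.trivialIrr G ∧ (σ χ = 1 ∨ σ χ = -1) ∧ (11 : ℤ) ∣ dg χ - σ χ ∧
        2 ≤ charDegree (χ : G → ℂ)) ∧
      (∀ g : G, ¬ 11 ∣ orderOf g → ∑ χ ∈ S, (σ χ : ℂ) * (χ : G → ℂ) g = -1) ∧
      ∀ χ ∈ S, χ ≠ θ → ∀ x ∈ (P : Subgroup G), x ≠ 1 →
        ∀ y ∈ centralizer ((P : Subgroup G) : Set G), ¬ 11 ∣ orderOf y →
          (χ : G → ℂ) (x * y) = (σ χ : ℂ) := by
  classical
  obtain ⟨A, B, δ, ε, hdisj, hA, hB, hA', hε, hB', hrel⟩ :=
    exists_block hG P hP (by norm_num) le_rfl hN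
  obtain ⟨θ, rfl⟩ := Finset.card_eq_one.mp (by simpa using hB)
  have hθA : θ ∉ A := fun h => Finset.disjoint_left.mp hdisj h (Finset.mem_singleton_self _)
  set σ : IrrCharacter G → ℤ := fun χ => if χ = θ then -ε else δ χ with hσ
  have hσA : ∀ χ ∈ A, σ χ = δ χ := fun χ hχ => if_neg fun (h : χ = θ) => hθA (h ▸ hχ)
  have hσθ : σ θ = -ε := if_pos rfl
  have hdeg : ∀ χ, χ ≠ Chars.trivialIrr G → 2 ≤ charDegree (χ : G → ℂ) := fun χ hne => by
    have h0 := (Chars.charDegree_spec χ).1
    have h1 : charDegree (χ : G → ℂ) ≠ 1 := fun h => hne (eq_trivial_of_degree_one hG χ h)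
    omega
  refine ⟨insert θ A, σ, θ, Finset.mem_insert_self _ _, ?_, fun χ hχ => ?_, fun g hg => ?_,
    fun χ hχ hne => ?_⟩
  · rw [Finset.card_insert_of_notMem hθA, hA]
  · rcases Finset.mem_insert.mp hχ with rfl | hχA
    · obtain ⟨h1, h2⟩ := hB' χ (Finset.mem_singleton_self _)
      rw [hσθ]
      exact ⟨h1, by omega, by push_cast at h2; omega, hdeg _ h1⟩
    · obtain ⟨h1, h2, h3, -⟩ := hA' χ hχA
      rw [hσA χ hχA]
      exact ⟨h1, h2, h3, hdeg _ h1⟩
  · rw [Finset.sum_insert hθA, hσθ, Finset.sum_congr rfl fun χ hχ => by rw [hσA χ hχ]]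
    have := hrel θ (Finset.mem_singleton_self _) g hg
    push_cast
    linear_combination -this
  · have hχA := (Finset.mem_insert.mp hχ).resolve_left hne
    rw [hσA χ hχA]
    exact (hA' χ hχA).2.2.2

/-- Order 31680 with a central involution of the normaliser. -/
theorem false_of_central (hn : Nat.card G = 31680)
    (hC : Nat.card (centralizer ((P : Subgroup G) : Set G)) = 22)
    (hN : Nat.card (normalizer ((P : Subgroup G) : Set G)) = 220) : False := by
  classical
  haveI := Fintype.ofFinite G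
  haveI := Fintype.ofFinite (P : Subgroup G)
  haveI : Fact (Nat.Prime 2) := ⟨Nat.prime_two⟩
  set N := normalizer ((P : Subgroup G) : Set G) with hNdef
  have hidx : N.index = 144 := by
    have h := N.card_mul_index
    rw [hN, hn] at h
    omega
  obtain ⟨Q, hQC, hQc, hle⟩ := exists_normalized P hP (q := 2) (k := 1) (by norm_num)
    (by rw [hC]; norm_num) (by rw [hC]; norm_num) (by rw [hC]; norm_num)
  obtain ⟨⟨u, huQ⟩, hu⟩ := exists_prime_orderOf_dvd_card' (G := Q) 2 (by rw [hQc]; norm_num)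
  rw [Subgroup.orderOf_mk] at hu
  have hu1 : u ≠ 1 := fun h => by rw [h, orderOf_one] at hu; omega
  have huC := hQC huQ
  have huP : u ∉ (P : Subgroup G) := not_mem_of_involution P hP hu
  set H := centralizer ({u} : Set G) with hH
  have hNH : N ≤ H := by
    intro g hg
    rw [hH, mem_centralizer_singleton_iff]
    have hgu : g * u * g⁻¹ ∈ Q := (mem_normalizer_iff.mp (hle hg) u).mp huQ
    haveI := Fintype.ofFinite Q
    obtain ⟨a, b, hab, huniv⟩ := Finset.card_eq_two.mp
      (show (Finset.univ : Finset Q).card = 2 by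
        rw [Finset.card_univ, ← Nat.card_eq_fintype_card, hQc, pow_one])
    have hthree : ∀ z : Q, z = a ∨ z = b := fun z => by
      have := Finset.mem_univ z
      rw [huniv] at this
      simpa using this
    have h1 : g * u * g⁻¹ ≠ 1 := fun h => hu1 (conj_eq_one_iff.mp h)
    have key : (⟨g * u * g⁻¹, hgu⟩ : Q) = ⟨u, huQ⟩ := by
      rcases hthree ⟨g * u * g⁻¹, hgu⟩ with e1 | e1 <;> rcases hthree ⟨u, huQ⟩ with e2 | e2
      · rw [e1, e2]
      · rcases hthree 1 with e3 | e3
        · exact absurd (congrArg Subtype.val (e1.trans e3.symm)) h1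
        · exact absurd (congrArg Subtype.val (e2.trans e3.symm)) hu1
      · rcases hthree 1 with e3 | e3
        · exact absurd (congrArg Subtype.val (e2.trans e3.symm)) hu1
        · exact absurd (congrArg Subtype.val (e1.trans e3.symm)) h1
      · rw [e1, e2]
    have h2 : g * u * g⁻¹ = u := congrArg Subtype.val key
    calc g * u = g * u * g⁻¹ * g := by group
      _ = u * g := by rw [h2]
  have hHt : H ≠ ⊤ := fun h => hu1 (by
    have hc : u ∈ center G := mem_center_iff.mpr fun g =>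
      mem_centralizer_singleton_iff.mp (show g ∈ centralizer ({u} : Set G) from hH ▸ h ▸ mem_top g)
    rwa [SmallGroups.center_eq_bot hG, mem_bot] at hc)
  have hHN : H = N := (eq_or_index_twelve P hP hidx hNH hHt).resolve_right fun h => by
    have := card_centralizer_of_index_twelve P hP h
    omega
  obtain ⟨S, σ, θ, hθ, hS, hS', hsum, hval⟩ := exists_ten hG P hP (by rw [hN, hC])
  choose v hv using fun χ : IrrCharacter G => exists_int_involution χ hu (dg_spec χ)
  have hsumv : ∑ χ ∈ S, σ χ * v χ = -1 := by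
    have h := hsum u (by rw [hu]; norm_num)
    simp only [hv] at h
    exact_mod_cast h
  have hsumf : ∑ χ ∈ S, σ χ * dg χ = -1 := by
    have h := hsum 1 (by rw [orderOf_one]; norm_num)
    simp only [dg_spec] at h
    exact_mod_cast h
  have hsq : ∑ χ ∈ S, (σ χ * v χ) ^ 2 ≤ 219 := by
    have horth : ∑ χ : IrrCharacter G, v χ ^ 2 = 220 := by
      apply Int.cast_injective (α := ℂ)
      push_cast
      rw [show (220 : ℂ) = ((Nat.card H : ℕ) : ℂ) by rw [hHN, hN]; norm_num, hH,
        ← Chars.column_orthogonality_of_isConj (IsConj.refl u)]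
      exact Finset.sum_congr rfl fun χ _ => by rw [hv, sq, map_intCast]
    have h1 : ∑ χ ∈ insert (Chars.trivialIrr G) S, v χ ^ 2 ≤ 220 :=
      horth ▸ Finset.sum_le_univ_sum_of_nonneg fun χ => sq_nonneg _
    rw [Finset.sum_insert fun h => (hS' _ h).1 rfl] at h1
    have ht : v (Chars.trivialIrr G) = 1 := by
      have h := hv (Chars.trivialIrr G)
      rw [Chars.trivialIrr_apply, ← Int.cast_one] at h
      exact (Int.cast_injective h).symm
    rw [ht] at h1
    have h2 : ∑ χ ∈ S, (σ χ * v χ) ^ 2 = ∑ χ ∈ S, v χ ^ 2 := Finset.sum_congr rfl fun χ hχ => by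
      rcases (hS' χ hχ).2.1 with h | h <;> rw [h] <;> ring
    omega
  -- congruences
  have huconj : ∀ p ∈ (P : Subgroup G), u * p * u⁻¹ = p := fun p hp => by
    rw [← mem_centralizer_iff.mp huC p hp, mul_inv_cancel_right]
  have hw' : ∀ χ ∈ S, χ ≠ θ → (11 : ℤ) ∣ σ χ * v χ - 1 := by
    intro χ hχ hne
    obtain ⟨k, l, hk, hl⟩ := exists_sum_pair χ (P : Subgroup G) huP
      (by rw [← sq, ← hu, pow_orderOf_eq_one]; exact one_mem _)
      (fun p hp => by rw [huconj p hp]; exact hp)
    rw [sum_block P hP χ (δ := σ χ) (y := u) fun x hx hx1 =>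
      hval χ hχ hne x hx hx1 u huC (by rw [hu]; norm_num), hv, hP] at hk hl
    have h3 : v χ + 10 * σ χ = 11 * ((k : ℤ) - l) := by
      apply Int.cast_injective (α := ℂ)
      push_cast at hk hl ⊢
      linear_combination (hk - hl) / 2
    rcases (hS' χ hχ).2.1 with h | h <;> rw [h] at h3 ⊢ <;> omega
  have hw : ∀ χ ∈ S, (11 : ℤ) ∣ σ χ * v χ - 1 := by
    intro χ hχ
    by_cases hne : χ = θ
    · subst hne
      have h1 : (11 : ℤ) ∣ ∑ ψ ∈ S.erase χ, (σ ψ * v ψ - 1) := Finset.dvd_sum fun ψ hψ =>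
        hw' ψ (Finset.mem_of_mem_erase hψ) (Finset.ne_of_mem_erase hψ)
      rw [Finset.sum_sub_distrib, Finset.sum_const, Finset.card_erase_of_mem hχ, hS] at h1
      rw [← Finset.add_sum_erase _ _ hχ] at hsumv
      simp only [nsmul_eq_mul, mul_one] at h1
      push_cast at h1
      omega
    · exact hw' χ hχ hne
  set T := S.filter fun χ => σ χ * v χ ≠ 1 with hT
  set U := S.filter fun χ => ¬ σ χ * v χ ≠ 1 with hU
  have hcard : T.card + U.card = 10 := by
    rw [hT, hU, Finset.card_filter_add_card_filter_not, hS]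
  have hUsum : ∑ χ ∈ U, σ χ * v χ = U.card := by
    rw [Finset.sum_congr rfl fun χ hχ => not_not.mp (Finset.mem_filter.mp hχ).2]
    simp [hU]
  have hUsq : ∑ χ ∈ U, (σ χ * v χ) ^ 2 = U.card := by
    rw [Finset.sum_congr rfl fun χ hχ => by rw [not_not.mp (Finset.mem_filter.mp hχ).2]]
    simp [hU]
  have hsplit := Finset.sum_filter_add_sum_filter_not S (fun χ => σ χ * v χ ≠ 1)
    (fun χ => σ χ * v χ)
  rw [← hT, ← hU, hUsum, hsumv] at hsplit
  have hsplit2 := Finset.sum_filter_add_sum_filter_not S (fun χ => σ χ * v χ ≠ 1)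
    (fun χ => (σ χ * v χ) ^ 2)
  rw [← hT, ← hU, hUsq] at hsplit2
  have hbig : ∀ χ ∈ T, 100 ≤ (σ χ * v χ) ^ 2 := fun χ hχ => by
    obtain ⟨hχS, h1⟩ := Finset.mem_filter.mp hχ
    obtain ⟨j, hj⟩ := hw χ hχS
    have h2 : 10 ≤ σ χ * v χ ∨ σ χ * v χ ≤ -10 := by omega
    rcases h2 with h2 | h2 <;> nlinarith
  have hlow : (T.card : ℤ) * 100 ≤ ∑ χ ∈ T, (σ χ * v χ) ^ 2 := by
    have := Finset.card_nsmul_le_sum T _ (100 : ℤ) hbig
    simpa using this
  obtain ⟨χ, hTχ⟩ : ∃ χ, T = {χ} := by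
    rcases (show T.card = 0 ∨ T.card = 1 ∨ T.card = 2 by omega) with h | h | h
    · exfalso
      rw [Finset.card_eq_zero.mp h, Finset.sum_empty] at hsplit
      omega
    · exact Finset.card_eq_one.mp h
    · exfalso
      obtain ⟨a, b, hab, he⟩ := Finset.card_eq_two.mp h
      have haT : a ∈ T := he ▸ Finset.mem_insert_self _ _
      have hbT : b ∈ T := he ▸ Finset.mem_insert_of_mem (Finset.mem_singleton_self _)
      obtain ⟨i, hi⟩ := hw a (Finset.mem_filter.mp haT).1
      obtain ⟨j, hj⟩ := hw b (Finset.mem_filter.mp hbT).1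
      have ha := (Finset.mem_filter.mp haT).2
      have hb := (Finset.mem_filter.mp hbT).2
      rw [he, Finset.sum_pair hab] at hsplit hsplit2
      have hb' : -14 ≤ σ b * v b ∧ σ b * v b ≤ 14 := by
        constructor <;> nlinarith [hbig a haT]
      have ha' : -14 ≤ σ a * v a ∧ σ a * v a ≤ 14 := by
        constructor <;> nlinarith [hbig b hbT]
      omega
  have h45 : ∀ ψ ∈ U, σ ψ * dg ψ = 45 := by
    intro ψ hψ
    obtain ⟨hψS, h1⟩ := Finset.mem_filter.mp hψ
    rw [not_not] at h1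
    obtain ⟨-, hσ, hcong, hf2⟩ := hS' ψ hψS
    have h4 := four_dvd_sub hG ψ hu (dg_spec ψ) (hv ψ)
    have hd := dg_dvd ψ (hn ▸ dvd_rfl : Nat.card G ∣ 31680)
    simp only [dg] at hcong h4 ⊢
    set f := charDegree (ψ : G → ℂ)
    have hv1 : v ψ = σ ψ := by rcases hσ with h | h <;> rw [h] at h1 ⊢ <;> omega
    rw [hv1] at h4
    have hodd : f % 2 = 1 := by rcases hσ with h | h <;> rw [h] at h4 <;> omega
    have hd' : f ∣ 495 := by
      refine Nat.Coprime.dvd_of_dvd_mul_left (m := 64) ?_ hd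
      exact ((Nat.coprime_two_right.mpr (Nat.odd_iff.mpr hodd)).pow_right 6)
    have key : ∀ g : ℕ, g < 496 →
        g < 2 ∨ 495 % g ≠ 0 ∨ g % 44 ≠ 1 ∧ g % 44 ≠ 43 ∨ g = 45 := by decide +kernel
    have hk := key f (Nat.lt_succ_of_le (Nat.le_of_dvd (by norm_num) hd'))
    have hm := Nat.mod_eq_zero_of_dvd hd'
    rcases hσ with h | h <;> rw [h] at h4 hcong ⊢ <;> omega
  have hfsplit := Finset.sum_filter_add_sum_filter_not S (fun χ => σ χ * v χ ≠ 1)
    (fun χ => σ χ * dg χ)
  rw [← hT, ← hU, hsumf, Finset.sum_congr rfl h45, hTχ, Finset.sum_singleton, Finset.sum_const,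
    nsmul_eq_mul] at hfsplit
  rw [hTχ, Finset.card_singleton] at hcard
  have hUc : U.card = 9 := by omega
  rw [hUc] at hfsplit
  have hd := dg_dvd χ (hn ▸ dvd_rfl : Nat.card G ∣ 31680)
  have hχS : χ ∈ S := (Finset.mem_filter.mp (hTχ ▸ Finset.mem_singleton_self χ : χ ∈ T)).1
  simp only [dg] at hfsplit
  have : charDegree (χ : G → ℂ) = 406 := by
    rcases (hS' χ hχS).2.1 with h | h <;> rw [h] at hfsplit <;> push_cast at hfsplit <;> omega
  rw [this] at hd
  norm_num at hd

end Cfsg.Agent.Lib.DegreeGraphM12
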