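import Mathlib
import Cfsg.Agent.Lib.DegreeGraphM12.Ten
import Cfsg.Agent.Lib.Recog95040.Tools

/-!
The self-centralising case of order 15840.
-/

set_option autoImplicit false
set_option linter.style.haveILetI false

namespace Cfsg.Agent.Lib.DegreeGraphM12

open Cfsg Cfsg.Agent.Lib Subgroup
open Cfsg.Agent.Lib.SmallGroups (centralizer_le_normalizer' le_centralizer_of_prime)
open scoped ComplexConjugate

universe u

variable {G : Type u} [Group G] [Finite G] [IsSimpleGroup G] [Fact (Nat.Prime 11)]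
  (hG : ¬ IsMulCommutative G) (P : Sylow 11 G) (hP : Nat.card (P : Subgroup G) = 11)

omit [IsSimpleGroup G] in
include hP in
/-- When the normaliser induces all ten automorphisms, the generators are conjugate. -/
theorem isConj_generators (hC : Nat.card (centralizer ((P : Subgroup G) : Set G)) = 11)
    (hN : Nat.card (normalizer ((P : Subgroup G) : Set G)) = 110) {x p : G}
    (hx : x ∈ (P : Subgroup G)) (hx1 : x ≠ 1) (hp : p ∈ (P : Subgroup G)) (hp1 : p ≠ 1) :
    IsConj x p := by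
  classical
  set N := normalizer ((P : Subgroup G) : Set G) with hNdef
  haveI := Fintype.ofFinite N
  haveI := Fintype.ofFinite (P : Subgroup G)
  let conjP : N → (P : Subgroup G) := fun g =>
    ⟨(g : G) * x * (g : G)⁻¹, (mem_normalizer_iff.mp g.2 x).mp hx⟩
  by_contra hcon
  have hmaps : ∀ g ∈ (Finset.univ : Finset N),
      conjP g ∈ ((Finset.univ : Finset (P : Subgroup G)).erase 1).erase ⟨p, hp⟩ := by
    intro g _
    refine Finset.mem_erase.mpr ⟨fun h => hcon ?_, Finset.mem_erase.mpr ⟨fun h => hx1 ?_,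
      Finset.mem_univ _⟩⟩
    · exact isConj_iff.mpr ⟨(g : G), congrArg Subtype.val h⟩
    · exact conj_eq_one_iff.mp (congrArg Subtype.val h)
  have hfib : ∀ b ∈ ((Finset.univ : Finset (P : Subgroup G)).erase 1).erase ⟨p, hp⟩,
      ((Finset.univ : Finset N).filter fun g => conjP g = b).card ≤ 11 := by
    intro b _
    rcases ((Finset.univ : Finset N).filter fun g => conjP g = b).eq_empty_or_nonempty with h | h
    · simp [h]
    · obtain ⟨g0, hg0⟩ := h
      rw [Finset.mem_filter] at hg0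
      haveI := Fintype.ofFinite (centralizer ((P : Subgroup G) : Set G))
      refine le_trans ?_ (le_of_eq (show (Finset.univ :
        Finset (centralizer ((P : Subgroup G) : Set G))).card = 11 by
          rw [Finset.card_univ, ← Nat.card_eq_fintype_card, hC]))
      refine Finset.card_le_card_of_injOn
        (fun g => if h : (g0 : G)⁻¹ * g ∈ centralizer ((P : Subgroup G) : Set G) then
          (⟨_, h⟩ : centralizer ((P : Subgroup G) : Set G)) else 1) (fun _ _ => Finset.mem_univ _) ?_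
      have hmem : ∀ g : N, conjP g = b →
          (g0 : G)⁻¹ * g ∈ centralizer ((P : Subgroup G) : Set G) := by
        intro g hg
        have he : (g : G) * x * (g : G)⁻¹ = (g0 : G) * x * (g0 : G)⁻¹ :=
          congrArg Subtype.val (hg.trans hg0.2.symm)
        have hcomm : Commute ((g0 : G)⁻¹ * g) x := by
          show (g0 : G)⁻¹ * g * x = x * ((g0 : G)⁻¹ * g)
          calc (g0 : G)⁻¹ * g * x = (g0 : G)⁻¹ * ((g : G) * x * (g : G)⁻¹) * g := by group
            _ = _ := by rw [he]; group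
        refine mem_centralizer_iff.mpr fun q hq => ?_
        rw [SetLike.mem_coe, ← zpowers_eq P hP hx hx1, mem_zpowers_iff] at hq
        obtain ⟨k, rfl⟩ := hq
        exact (hcomm.zpow_right k).eq.symm
      intro a ha a' ha' he
      have ha2 := hmem a (Finset.mem_filter.mp ha).2
      have ha'2 := hmem a' (Finset.mem_filter.mp ha').2
      simp only [dif_pos ha2, dif_pos ha'2, Subtype.mk.injEq] at he
      exact Subtype.ext (mul_left_cancel he)
  have h := Finset.card_le_mul_card_image_of_maps_to hmaps 11 hfib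
  rw [Finset.card_univ, ← Nat.card_eq_fintype_card, hN, Finset.card_erase_of_mem
    (Finset.mem_erase.mpr ⟨fun h => hp1 (congrArg Subtype.val h), Finset.mem_univ _⟩),
    Finset.card_erase_of_mem (Finset.mem_univ _), Finset.card_univ, ← Nat.card_eq_fintype_card,
    hP] at h
  norm_num at h

theorem exists_int_of_isIntegral_rat {z : ℂ} (h : IsIntegral ℤ z) {r : ℚ} (hr : z = (r : ℂ)) :
    ∃ a : ℤ, z = (a : ℂ) := by
  subst hr
  have h' : IsIntegral ℤ r :=
    (isIntegral_algebraMap_iff (R := ℤ) (A := ℚ) (B := ℂ) (algebraMap ℚ ℂ).injective).mp h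
  obtain ⟨a, ha⟩ := IsIntegrallyClosed.isIntegral_iff.mp h'
  exact ⟨a, by rw [← ha]; simp⟩

theorem degree_cases {f : ℕ} (hf : f ∣ 15840) (h2 : 2 ≤ f) (hlt : f < 126)
    (hm : f % 11 = 1 ∨ f % 11 = 10) : f = 10 ∨ f = 12 ∨ f = 32 ∨ f = 45 ∨ f = 120 := by
  have key : ∀ g : ℕ, g < 126 → 15840 % g ≠ 0 ∨ g < 2 ∨ g % 11 ≠ 1 ∧ g % 11 ≠ 10 ∨
      (g = 10 ∨ g = 12 ∨ g = 32 ∨ g = 45 ∨ g = 120) := by decide +kernel
  have := key f hlt
  have := Nat.mod_eq_zero_of_dvd hf
  omega

include hG hP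

/-- Order 15840 with a self-centralising Sylow subgroup. -/
theorem false_of_self (hn : Nat.card G = 15840)
    (hC : Nat.card (centralizer ((P : Subgroup G) : Set G)) = 11)
    (hN : Nat.card (normalizer ((P : Subgroup G) : Set G)) = 110) : False := by
  classical
  haveI := Fintype.ofFinite G
  haveI := Fintype.ofFinite (P : Subgroup G)
  haveI : Fact (Nat.Prime 2) := ⟨Nat.prime_two⟩
  set N := normalizer ((P : Subgroup G) : Set G) with hNdef
  set C := centralizer ((P : Subgroup G) : Set G) with hCdef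
  have hCP : C = (P : Subgroup G) :=
    (eq_of_le_of_card_ge (le_centralizer_of_prime hP) (by rw [hC, hP])).symm
  obtain ⟨x, hx, hx1⟩ : ∃ x ∈ (P : Subgroup G), x ≠ 1 := by
    by_contra! hall
    rw [(Subgroup.eq_bot_iff_forall _).mpr hall, card_bot] at hP
    omega
  obtain ⟨⟨s, hsN⟩, hs⟩ := exists_prime_orderOf_dvd_card' (G := N) 2 (by rw [hN]; norm_num)
  rw [Subgroup.orderOf_mk] at hs
  have hsP := not_mem_of_involution P hP hs
  have hinv := inverts P hP hs hsN (fun h => hsP (hCP.le h))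
  have hss : s * s = 1 := by rw [← sq, ← hs, pow_orderOf_eq_one]
  obtain ⟨S, σ, θ, hθ, hS, hS', hsum, hval⟩ := exists_ten hG P hP (by rw [hN, hC])
  choose v hv using fun χ : IrrCharacter G => exists_int_involution χ hs (dg_spec χ)
  -- integer values at `x`
  have hz0 : ∀ χ : IrrCharacter G, ∃ z : ℤ, (χ : G → ℂ) x = z ∧ (11 : ℤ) ∣ dg χ - z ∧
      ∃ k : ℕ, (dg χ + 10 * z = 11 * (k : ℤ)) := by
    intro χ
    obtain ⟨k, hk⟩ := exists_sum_eq χ (P : Subgroup G)
    have hsum : ∑ p : (P : Subgroup G), (χ : G → ℂ) p = dg χ + 10 * (χ : G → ℂ) x := by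
      rw [← Finset.add_sum_erase _ _ (Finset.mem_univ (1 : (P : Subgroup G))),
        OneMemClass.coe_one, dg_spec,
        Finset.sum_congr rfl fun (p : (P : Subgroup G)) hp => show (χ : G → ℂ) p = (χ : G → ℂ) x by
          obtain ⟨c, hc⟩ := isConj_iff.mp (isConj_generators P hP hC hN hx hx1 p.2 fun h =>
            Finset.ne_of_mem_erase hp (Subtype.ext h))
          rw [← hc]
          exact Chars.irr_isClassFunction χ x c,
        Finset.sum_const, Finset.card_erase_of_mem (Finset.mem_univ _), Finset.card_univ,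
        ← Nat.card_eq_fintype_card, hP, nsmul_eq_mul]
      norm_num
    rw [hsum, hP] at hk
    obtain ⟨z, hz⟩ := exists_int_of_isIntegral_rat (Chars.irr_isIntegral χ x)
      (r := (11 * (k : ℚ) - dg χ) / 10) (by push_cast at hk ⊢; linear_combination hk / 10)
    have h1 : dg χ + 10 * z = 11 * (k : ℤ) := by
      apply Int.cast_injective (α := ℂ)
      push_cast at hk ⊢
      rw [hz] at hk
      linear_combination hk
    exact ⟨z, hz, by omega, k, h1⟩
  choose z hz hzc kz hkz using hz0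
  have hzS : ∀ χ ∈ S, χ ≠ θ → z χ = σ χ := fun χ hχ hne => by
    have h := hval χ hχ hne x hx hx1 1 (one_mem _) (by rw [orderOf_one]; norm_num)
    rw [mul_one, hz] at h
    exact_mod_cast h
  have ht : z (Chars.trivialIrr G) = 1 ∧ v (Chars.trivialIrr G) = 1 ∧
      dg (Chars.trivialIrr G) = 1 := by
    refine ⟨?_, ?_, ?_⟩
    · have h := hz (Chars.trivialIrr G)
      rw [Chars.trivialIrr_apply, ← Int.cast_one] at h
      exact (Int.cast_injective h).symm
    · have h := hv (Chars.trivialIrr G)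
      rw [Chars.trivialIrr_apply, ← Int.cast_one] at h
      exact (Int.cast_injective h).symm
    · have h := dg_spec (Chars.trivialIrr G)
      rw [Chars.trivialIrr_apply, ← Int.cast_one] at h
      exact (Int.cast_injective h).symm
  have hz11 : ∑ χ : IrrCharacter G, z χ ^ 2 = 11 := by
    apply Int.cast_injective (α := ℂ)
    push_cast
    rw [show (11 : ℂ) = ((Nat.card (centralizer ({x} : Set G)) : ℕ) : ℂ) by
      rw [SmallGroups.card_centralizer_of_orderOf P hP (orderOf_mem P hP hx hx1), hC]; norm_num,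
      ← Chars.column_orthogonality_of_isConj (IsConj.refl x)]
    exact Finset.sum_congr rfl fun χ _ => by rw [hz, sq, map_intCast]
  have htS : Chars.trivialIrr G ∉ S := fun h => (hS' _ h).1 rfl
  set S' := insert (Chars.trivialIrr G) S with hS'def
  have hsq1 : ∀ χ ∈ S.erase θ, z χ ^ 2 = 1 := fun χ hχ => by
    rw [hzS χ (Finset.mem_of_mem_erase hχ) (Finset.ne_of_mem_erase hχ)]
    rcases (hS' χ (Finset.mem_of_mem_erase hχ)).2.1 with h | h <;> rw [h] <;> ring
  have hS'sum : ∑ χ ∈ S', z χ ^ 2 = 10 + z θ ^ 2 := by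
    rw [hS'def, Finset.sum_insert htS, ht.1, ← Finset.add_sum_erase _ _ hθ,
      Finset.sum_congr rfl hsq1, Finset.sum_const, Finset.card_erase_of_mem hθ, hS]
    norm_num
    ring
  have hrest := Finset.sum_sdiff (f := fun χ => z χ ^ 2) (Finset.subset_univ S')
  rw [hz11, hS'sum] at hrest
  have hnn : 0 ≤ ∑ χ ∈ Finset.univ \ S', z χ ^ 2 := Finset.sum_nonneg fun χ _ => sq_nonneg _
  have hzθ : z θ = σ θ := by
    have h1 : z θ ^ 2 ≤ 1 := by omega
    have h2 : -1 ≤ z θ ∧ z θ ≤ 1 := by constructor <;> nlinarith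
    have h3 := hzc θ
    obtain ⟨-, h4, h5, -⟩ := hS' θ hθ
    omega
  have hzero : ∀ χ, χ ∉ S' → z χ = 0 := by
    have hσ2 : z θ ^ 2 = 1 := by
      rcases (hS' θ hθ).2.1 with h | h <;> rw [hzθ, h] <;> ring
    have h0 : ∑ χ ∈ Finset.univ \ S', z χ ^ 2 = 0 := by omega
    intro χ hχ
    have := (Finset.sum_eq_zero_iff_of_nonneg fun ψ _ => sq_nonneg (z ψ)).mp h0 χ
      (Finset.mem_sdiff.mpr ⟨Finset.mem_univ _, hχ⟩)
    exact eq_zero_of_pow_eq_zero this
  have hzall : ∀ χ ∈ S, z χ = σ χ := fun χ hχ => by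
    by_cases h : χ = θ
    · rw [h, hzθ]
    · exact hzS χ hχ h
  -- the degrees
  have hsumf : ∑ χ ∈ S, σ χ * dg χ = -1 := by
    have h := hsum 1 (by rw [orderOf_one]; norm_num)
    simp only [dg_spec] at h
    exact_mod_cast h
  have hsumv : ∑ χ ∈ S, σ χ * v χ = -1 := by
    have h := hsum s (by rw [hs]; norm_num)
    simp only [hv] at h
    exact_mod_cast h
  have hsq : ∑ χ ∈ S, dg χ ^ 2 ≤ 15839 := by
    have h : ∑ χ : IrrCharacter G, dg χ ^ 2 = 15840 := by
      apply Int.cast_injective (α := ℂ)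
      push_cast
      rw [show (15840 : ℂ) = ((Nat.card G : ℕ) : ℂ) by rw [hn]; norm_num, ← Chars.sum_degree_sq]
      exact Finset.sum_congr rfl fun χ _ => by rw [dg_spec]
    have h1 : ∑ χ ∈ S', dg χ ^ 2 ≤ 15840 :=
      h ▸ Finset.sum_le_univ_sum_of_nonneg fun χ => sq_nonneg _
    rw [hS'def, Finset.sum_insert htS, ht.2.2] at h1
    omega
  have hitem : ∀ χ ∈ S, (dg χ = 12 ∧ σ χ = 1 ∧ v χ = 0) ∨ (dg χ = 32 ∧ σ χ = -1 ∧ v χ = 0) ∨
      (dg χ = 45 ∧ σ χ = 1 ∧ (v χ = 1 ∨ v χ = -3 ∨ v χ = 5)) ∨ (dg χ = 120 ∧ σ χ = -1) := by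
    intro χ hχ
    obtain ⟨-, hσ, hcong, hf2⟩ := hS' χ hχ
    have h4 := four_dvd_sub hG χ hs (dg_spec χ) (hv χ)
    obtain ⟨k, l, hk, hl⟩ := exists_sum_pair χ (P : Subgroup G) hsP (by rw [hss]; exact one_mem _)
      (fun p hp => by rw [hinv p hp]; exact inv_mem hp)
    obtain ⟨m, hm⟩ := exists_sum_eq χ (P : Subgroup G)
    rw [sum_coset P hP χ hinv, hv, hP] at hk hl
    rw [hP] at hm
    have hsumP : ∑ p : (P : Subgroup G), (χ : G → ℂ) p = dg χ + 10 * σ χ := by
      rw [← hzall χ hχ]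
      have h := sum_block P hP χ (δ := z χ) (y := 1) fun p hp hp1 => by
        obtain ⟨c, hc⟩ := isConj_iff.mp (isConj_generators P hP hC hN hx hx1 hp hp1)
        rw [mul_one, ← hc, Chars.irr_isClassFunction χ x c, hz]
      simp only [mul_one] at h
      rw [h, dg_spec]
    rw [hsumP] at hk hl
    have hk' : dg χ + 10 * σ χ + 11 * v χ = 22 * (k : ℤ) := by
      apply Int.cast_injective (α := ℂ); push_cast at hk ⊢; linear_combination hk
    have hl' : dg χ + 10 * σ χ - 11 * v χ = 22 * (l : ℤ) := by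
      apply Int.cast_injective (α := ℂ); push_cast at hl ⊢; linear_combination hl
    have hlt : dg χ < 126 := by
      have : dg χ ^ 2 ≤ 15839 :=
        (Finset.single_le_sum (f := fun χ => dg χ ^ 2) (fun _ _ => sq_nonneg _) hχ).trans hsq
      nlinarith
    have hd := dg_dvd χ (hn ▸ dvd_rfl : Nat.card G ∣ 15840)
    simp only [dg] at hcong h4 hk' hl' hlt ⊢
    rcases degree_cases hd hf2 (by omega)
      (by rcases hσ with h | h <;> rw [h] at hcong <;> omega) with hf | hf | hf | hf | hf <;>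
      rw [hf] at hcong h4 hk' hl' ⊢ <;>
      rcases hσ with h | h <;> rw [h] at hcong hk' hl' ⊢ <;> omega
  have hsplit : ∀ (F : IrrCharacter G → ℤ) (a b c d : ℤ),
      (∀ χ ∈ S, dg χ = 12 → F χ = a) → (∀ χ ∈ S, dg χ = 32 → F χ = b) →
      (∀ χ ∈ S, dg χ = 45 → F χ = c) → (∀ χ ∈ S, dg χ = 120 → F χ = d) →
      ∑ χ ∈ S, F χ = a * (S.filter fun χ => dg χ = 12).card + b * (S.filter fun χ => dg χ = 32).card +
        c * (S.filter fun χ => dg χ = 45).card + d * (S.filter fun χ => dg χ = 120).card := by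
    intro F a b c d ha hb hc hd
    have hrw : ∀ χ ∈ S, F χ = (if dg χ = 12 then a else 0) + (if dg χ = 32 then b else 0) +
        (if dg χ = 45 then c else 0) + (if dg χ = 120 then d else 0) := by
      intro χ hχ
      rcases hitem χ hχ with h | h | h | h
      · rw [ha χ hχ h.1, h.1]; norm_num
      · rw [hb χ hχ h.1, h.1]; norm_num
      · rw [hc χ hχ h.1, h.1]; norm_num
      · rw [hd χ hχ h.1, h.1]; norm_num
    rw [Finset.sum_congr rfl hrw]
    simp only [Finset.sum_add_distrib, ← Finset.sum_filter, Finset.sum_const, nsmul_eq_mul]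
    ring
  have hval12 : ∀ χ ∈ S, dg χ = 12 → σ χ = 1 ∧ v χ = 0 := fun χ hχ h => by
    have := hitem χ hχ; omega
  have hval32 : ∀ χ ∈ S, dg χ = 32 → σ χ = -1 ∧ v χ = 0 := fun χ hχ h => by
    have := hitem χ hχ; omega
  have hval45 : ∀ χ ∈ S, dg χ = 45 → σ χ = 1 ∧ (v χ = 1 ∨ v χ = -3 ∨ v χ = 5) := fun χ hχ h => by
    have := hitem χ hχ; omega
  have hval120 : ∀ χ ∈ S, dg χ = 120 → σ χ = -1 := fun χ hχ h => by
    have := hitem χ hχ; omega
  have e1 := hsplit (fun _ => 1) 1 1 1 1 (fun _ _ _ => rfl) (fun _ _ _ => rfl) (fun _ _ _ => rfl)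
    (fun _ _ _ => rfl)
  have e2 := hsplit (fun χ => σ χ * dg χ) 12 (-32) 45 (-120)
    (fun χ hχ h => by rw [(hval12 χ hχ h).1, h]; norm_num)
    (fun χ hχ h => by rw [(hval32 χ hχ h).1, h]; norm_num)
    (fun χ hχ h => by rw [(hval45 χ hχ h).1, h]; norm_num)
    (fun χ hχ h => by rw [hval120 χ hχ h, h]; norm_num)
  have e3 := hsplit (fun χ => dg χ ^ 2) 144 1024 2025 14400
    (fun χ _ h => by rw [h]; norm_num) (fun χ _ h => by rw [h]; norm_num)
    (fun χ _ h => by rw [h]; norm_num) (fun χ _ h => by rw [h]; norm_num)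
  rw [Finset.sum_const, hS, nsmul_eq_mul] at e1
  rw [hsumf] at e2
  rw [e3] at hsq
  push_cast at e1
  set F45 := S.filter fun χ => dg χ = 45 with hF45
  have hc : F45.card = 3 ∧ (S.filter fun χ => dg χ = 120).card = 0 := by omega
  have hno : ∀ χ ∈ S, dg χ ≠ 120 := fun χ hχ h => by
    have : 0 < (S.filter fun χ => dg χ = 120).card :=
      Finset.card_pos.mpr ⟨χ, Finset.mem_filter.mpr ⟨hχ, h⟩⟩
    omega
  -- the involution
  have hv45 : ∀ χ ∈ S, χ ∉ F45 → σ χ * v χ = 0 ∧ v χ = 0 := by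
    intro χ hχ hn'
    rcases hitem χ hχ with h | h | h | h
    · exact ⟨by rw [h.2.2, mul_zero], h.2.2⟩
    · exact ⟨by rw [h.2.2, mul_zero], h.2.2⟩
    · exact absurd (Finset.mem_filter.mpr ⟨hχ, h.1⟩) hn'
    · exact absurd h.1 (hno χ hχ)
  have hvsum : ∑ χ ∈ F45, v χ = -1 := by
    rw [← hsumv, ← Finset.sum_subset (Finset.filter_subset (fun χ => dg χ = 45) S)
      fun χ hχ hn' => (hv45 χ hχ hn').1]
    exact Finset.sum_congr rfl fun χ hχ => by
      obtain ⟨h1, h2⟩ := Finset.mem_filter.mp hχ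
      rw [(hval45 χ h1 h2).1, one_mul]
  obtain ⟨W, hW, hWsum⟩ : ∃ W : ℤ, (W = 11 ∨ W = 43) ∧ ∑ χ ∈ F45, v χ ^ 2 = W := by
    obtain ⟨a, b, c, hab, hac, hbc, he⟩ := Finset.card_eq_three.mp hc.1
    refine ⟨_, ?_, rfl⟩
    have hm : ∀ χ ∈ F45, v χ = 1 ∨ v χ = -3 ∨ v χ = 5 := fun χ hχ =>
      (hval45 χ (Finset.mem_filter.mp hχ).1 (Finset.mem_filter.mp hχ).2).2
    have ha := hm a (by rw [he]; simp)
    have hb := hm b (by rw [he]; simp)
    have hc' := hm c (by rw [he]; simp)
    rw [he, Finset.sum_insert (by simp [hab, hac]), Finset.sum_pair hbc] at hvsum ⊢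
    rcases ha with ha | ha | ha <;> rcases hb with hb | hb | hb <;> rcases hc' with hc' | hc' | hc' <;>
      rw [ha, hb, hc'] at hvsum ⊢ <;> omega
  -- pairs of conjugates of `s` with product `x`
  set cls := Finset.univ.filter (IsConj s) with hcls
  have hclsmem : ∀ g : G, ∀ a ∈ cls, g * a * g⁻¹ ∈ cls := fun g a ha =>
    Finset.mem_filter.mpr ⟨Finset.mem_univ _,
      (Finset.mem_filter.mp ha).2.trans (isConj_iff.mpr ⟨g, rfl⟩)⟩
  have hclsinv : ∀ a ∈ cls, a * a = 1 := fun a ha => by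
    obtain ⟨c, rfl⟩ := isConj_iff.mp (Finset.mem_filter.mp ha).2
    calc c * s * c⁻¹ * (c * s * c⁻¹) = c * (s * s) * c⁻¹ := by group
      _ = 1 := by rw [hss]; group
  have hpairs : ((cls ×ˢ cls).filter fun w => w.1 * w.2 = x).card = 11 := by
    rw [← hP, Nat.card_eq_fintype_card, ← Finset.card_univ]
    refine (Finset.card_bij (fun (p : (P : Subgroup G)) _ =>
      (((p : G) * s, (p : G) * x⁻¹ * s) : G × G)) ?_ ?_ ?_).symm
    · intro p _
      refine Finset.mem_filter.mpr ⟨Finset.mem_product.mpr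
        ⟨Finset.mem_filter.mpr ⟨Finset.mem_univ _, isConj_mul P hP hinv p.2⟩,
        Finset.mem_filter.mpr ⟨Finset.mem_univ _, isConj_mul P hP hinv
          (mul_mem p.2 (inv_mem hx))⟩⟩, ?_⟩
      have h1 := hinv _ (mul_mem p.2 (inv_mem hx))
      calc (p : G) * s * ((p : G) * x⁻¹ * s) = p * (s * ((p : G) * x⁻¹) * s⁻¹) * (s * s) := by
            group
        _ = p * ((p : G) * x⁻¹)⁻¹ := by rw [h1, hss, mul_one]
        _ = p * ((x : G) * (p : G)⁻¹) := by rw [mul_inv_rev, inv_inv]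
        _ = x := by
          rw [← mul_assoc, mem_centralizer_iff.mp (le_centralizer_of_prime hP hx) p p.2,
            mul_inv_cancel_right]
    · intro p _ q _ h
      exact Subtype.ext (mul_right_cancel (congrArg Prod.fst h))
    · rintro ⟨a, b⟩ hab
      obtain ⟨hab', he⟩ := Finset.mem_filter.mp hab
      obtain ⟨ha, hb⟩ := Finset.mem_product.mp hab'
      simp only at he
      have hb' : b = a * x := by rw [← he, ← mul_assoc, hclsinv a ha, one_mul]
      have hax : a * x * a = x⁻¹ := by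
        have h := hclsinv b hb
        rw [hb'] at h
        calc a * x * a = (a * x * (a * x)) * x⁻¹ := by group
          _ = x⁻¹ := by rw [h, one_mul]
      have hsx : s * x * s⁻¹ = x⁻¹ := hinv x hx
      have has : a * s ∈ C := by
        refine mem_centralizer_iff.mpr fun q hq => ?_
        rw [SetLike.mem_coe, ← zpowers_eq P hP hx hx1, mem_zpowers_iff] at hq
        obtain ⟨k, rfl⟩ := hq
        refine ((show Commute (a * s) x from ?_).zpow_right k).eq.symm
        show a * s * x = x * (a * s)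
        calc a * s * x = a * (s * x * s⁻¹) * s := by group
          _ = a * (a * x * a) * s := by rw [hsx, hax]
          _ = (a * a) * (x * (a * s)) := by group
          _ = _ := by rw [hclsinv a ha, one_mul]
      rw [hCP] at has
      refine ⟨⟨a * s, has⟩, Finset.mem_univ _, ?_⟩
      have h1 : a * s * s = a := by rw [mul_assoc, hss, mul_one]
      refine Prod.ext h1 ?_
      show a * s * x⁻¹ * s = b
      rw [hb']
      calc a * s * x⁻¹ * s = a * (s * x⁻¹ * s⁻¹) * (s * s) := by group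
        _ = a * x := by rw [hinv _ (inv_mem hx), inv_inv, hss, mul_one]
  have hform := Recog95040.card_pairs_mul cls cls hclsmem hclsmem x
  rw [hpairs, hn] at hform
  set idx := (centralizer ({s} : Set G)).index with hidx
  have hclscard : cls.card = idx := by
    rw [hidx, ← Chars.card_conjClass_eq_index, Nat.card_eq_fintype_card, Fintype.card_subtype]
  have hclssum : ∀ χ : IrrCharacter G, ∑ a ∈ cls, (χ : G → ℂ) a = (idx : ℂ) * v χ := fun χ => by
    rw [Finset.sum_congr rfl fun a ha => show (χ : G → ℂ) a = v χ by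
      obtain ⟨c, rfl⟩ := isConj_iff.mp (Finset.mem_filter.mp ha).2
      rw [Chars.irr_isClassFunction χ s c, hv], Finset.sum_const, hclscard, nsmul_eq_mul]
  have hterm : ∀ χ : IrrCharacter G, (χ : G → ℂ) x⁻¹ = z χ := fun χ => by
    rw [Chars.irr_inv, hz, map_intCast]
  simp only [hclssum, hterm, dg_spec] at hform
  rw [← Finset.sum_subset (Finset.subset_univ S') (fun χ _ hχ => by
      rw [hzero χ hχ]; simp),
    hS'def, Finset.sum_insert htS, ht.1, ht.2.1, ht.2.2,
    ← Finset.sum_subset (Finset.filter_subset (fun χ => dg χ = 45) S) (fun χ hχ hn' => by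
      rw [(hv45 χ hχ hn').2]; simp),
    Finset.sum_congr rfl fun χ hχ => show (idx : ℂ) * (v χ : ℂ) * ((idx : ℂ) * (v χ : ℂ)) *
        (z χ : ℂ) / (dg χ : ℂ) = (idx : ℂ) ^ 2 / 45 * ((v χ ^ 2 : ℤ) : ℂ) by
      obtain ⟨h1, h2⟩ := Finset.mem_filter.mp hχ
      rw [hzall χ h1, (hval45 χ h1 h2).1, h2]
      push_cast
      ring,
    ← Finset.mul_sum, ← Int.cast_sum, hWsum] at hform
  have hprod : (idx : ℕ) * Nat.card (centralizer ({s} : Set G)) = 15840 := by
    rw [hidx, Chars.index_centralizer_mul_card, hn]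
  set c := Nat.card (centralizer ({s} : Set G))
  have hmain : (11 : ℤ) * 45 * 15840 = (idx : ℤ) ^ 2 * (45 + W) := by
    apply Int.cast_injective (α := ℂ)
    push_cast at hform ⊢
    linear_combination 45 * hform
  have hp : (idx : ℤ) * c = 15840 := by exact_mod_cast hprod
  have hc2 : (c : ℤ) ^ 2 = 32 * (45 + W) := by
    have h := congrArg (· * (c : ℤ) ^ 2) hmain
    have h' : (11 : ℤ) * 45 * 15840 * (c : ℤ) ^ 2 = 15840 ^ 2 * (45 + W) := by
      rw [show (idx : ℤ) ^ 2 * (45 + W) * (c : ℤ) ^ 2 = ((idx : ℤ) * c) ^ 2 * (45 + W) by ring,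
        hp] at h
      exact h
    linarith
  have hclt : c < 54 := by
    rcases hW with rfl | rfl <;> by_contra hge <;> push Not at hge <;>
      (have : (54 : ℤ) ≤ c := by exact_mod_cast hge) <;> nlinarith
  have key : ∀ d : ℕ, d < 54 → d * d ≠ 1792 ∧ d * d ≠ 2816 := by decide +kernel
  have hk := key c hclt
  rcases hW with rfl | rfl
  · exact hk.1 (by exact_mod_cast (show (c : ℤ) * c = 1792 by rw [← sq, hc2]; norm_num))
  · exact hk.2 (by exact_mod_cast (show (c : ℤ) * c = 2816 by rw [← sq, hc2]; norm_num))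

end Cfsg.Agent.Lib.DegreeGraphM12
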