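import Mathlib
import Cfsg.Agent.Lib.DegreeGraphM12.TenSelf

/-!
The possible orders of a simple group of order dividing 95040 and divisible by 11.
-/

set_option autoImplicit false
set_option linter.style.haveILetI false

namespace Cfsg.Agent.Lib.DegreeGraphM12

open Cfsg Cfsg.Agent.Lib Subgroup
open Cfsg.Agent.Lib.SmallGroups.Below6232 (choices exists_choice)

universe u

theorem choices_table : ∀ n : ℕ, n ∈
    [11, 22, 33, 44, 55, 66, 88, 99, 110, 132, 165, 176, 198, 220, 264, 297, 330, 352, 396, 440,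
      495, 528, 594, 660, 704, 792, 880, 990, 1056, 1188, 1320, 1485, 1584, 1760, 1980, 2112, 2376,
      2640, 2970, 3168, 3520, 3960, 4752, 5280, 5940, 6336, 7920, 9504, 10560, 11880, 15840, 19008,
      23760, 31680, 47520, 95040] →
    ∀ t ∈ choices n 11, t.2.1 = 2 ∨ n = 660 ∨ n = 7920 ∨ n = 95040 ∨
      (n, t) ∈ [(15840, (144, 5, 22)), (15840, (144, 10, 11)), (23760, (144, 5, 33)),
        (31680, (144, 5, 44)), (31680, (144, 10, 22)), (47520, (144, 5, 66)),
        (47520, (144, 10, 33))] := by decide +kernel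

theorem mem_list {n : ℕ} (hn : n ∣ 95040) (h11 : 11 ∣ n) : n ∈
    [11, 22, 33, 44, 55, 66, 88, 99, 110, 132, 165, 176, 198, 220, 264, 297, 330, 352, 396, 440,
      495, 528, 594, 660, 704, 792, 880, 990, 1056, 1188, 1320, 1485, 1584, 1760, 1980, 2112, 2376,
      2640, 2970, 3168, 3520, 3960, 4752, 5280, 5940, 6336, 7920, 9504, 10560, 11880, 15840, 19008,
      23760, 31680, 47520, 95040] := by
  obtain ⟨m, rfl⟩ := h11
  have hm : m ∣ 8640 := Nat.dvd_of_mul_dvd_mul_left (show 0 < 11 by norm_num) hn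
  obtain ⟨a, b, ha, hb, rfl⟩ := Nat.dvd_mul.mp (show m ∣ 64 * 135 by norm_num; exact hm)
  have key1 : ∀ k : ℕ, k < 65 → 64 % k ≠ 0 ∨ k ∈ [1, 2, 4, 8, 16, 32, 64] := by decide +kernel
  have key2 : ∀ k : ℕ, k < 136 → 135 % k ≠ 0 ∨ k ∈ [1, 3, 5, 9, 15, 27, 45, 135] := by
    decide +kernel
  have key : ∀ x ∈ [1, 2, 4, 8, 16, 32, 64], ∀ y ∈ [1, 3, 5, 9, 15, 27, 45, 135], 11 * (x * y) ∈
    [11, 22, 33, 44, 55, 66, 88, 99, 110, 132, 165, 176, 198, 220, 264, 297, 330, 352, 396, 440,
      495, 528, 594, 660, 704, 792, 880, 990, 1056, 1188, 1320, 1485, 1584, 1760, 1980, 2112, 2376,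
      2640, 2970, 3168, 3520, 3960, 4752, 5280, 5940, 6336, 7920, 9504, 10560, 11880, 15840, 19008,
      23760, 31680, 47520, 95040] := by decide +kernel
  exact key a ((key1 a (Nat.lt_succ_of_le (Nat.le_of_dvd (by norm_num) ha))).resolve_left
    (not_not.mpr (Nat.mod_eq_zero_of_dvd ha))) b
    ((key2 b (Nat.lt_succ_of_le (Nat.le_of_dvd (by norm_num) hb))).resolve_left
    (not_not.mpr (Nat.mod_eq_zero_of_dvd hb)))

/-- The orders that remain. -/
theorem orders {G : Type u} [Group G] [Finite G] [IsSimpleGroup G] (hG : ¬ IsMulCommutative G)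
    (hn : Nat.card G ∣ 95040) (h11 : 11 ∣ Nat.card G) :
    Nat.card G = 660 ∨ Nat.card G = 7920 ∨ Nat.card G = 95040 := by
  haveI : Fact (Nat.Prime 11) := ⟨by norm_num⟩
  obtain ⟨P⟩ : Nonempty (Sylow 11 G) := inferInstance
  obtain ⟨m, hm⟩ := h11
  have h121 : ¬ 11 ∣ m := fun h => by
    have := ((Nat.mul_dvd_mul_left 11 h).trans (dvd_of_eq hm.symm)).trans hn
    norm_num at this
  obtain ⟨hP, t, ht, hs, hC, hN⟩ := exists_choice hG rfl hm h121 P
  have hidx : (normalizer ((P : Subgroup G) : Set G)).index = t.1 :=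
    P.card_eq_index_normalizer.symm.trans hs
  rcases choices_table _ (mem_list hn ⟨m, hm⟩) t ht with h | h | h | h | h
  · exact (false_of_two P hP hG hn (by rw [hN, h, hC])).elim
  · exact Or.inl h
  · exact Or.inr (Or.inl h)
  · exact Or.inr (Or.inr h)
  · exfalso
    simp only [List.mem_cons, List.not_mem_nil, or_false, Prod.ext_iff] at h
    haveI : Fact (Nat.Prime 2) := ⟨Nat.prime_two⟩
    haveI : Fact (Nat.Prime 3) := ⟨Nat.prime_three⟩
    rcases h with ⟨hg, h1, h2, h3⟩ | ⟨hg, h1, h2, h3⟩ | ⟨hg, h1, h2, h3⟩ | ⟨hg, h1, h2, h3⟩ |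
      ⟨hg, h1, h2, h3⟩ | ⟨hg, h1, h2, h3⟩ | ⟨hg, h1, h2, h3⟩ <;>
      rw [h1] at hidx <;> rw [h3] at hC <;> rw [h2, h3] at hN
    · exact false_of_small P hP hG hidx (q := 2) (k := 1) (by norm_num) one_ne_zero
        (by rw [hC]; norm_num) (by rw [hC]; norm_num) (by rw [hN]; norm_num)
        (by rw [hg]; norm_num) (by rw [hC]; norm_num)
    · exact false_of_self hG P hP hg hC hN
    · exact false_of_small P hP hG hidx (q := 3) (k := 1) (by norm_num) one_ne_zero
        (by rw [hC]; norm_num) (by rw [hC]; norm_num) (by rw [hN]; norm_num)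
        (by rw [hg]; norm_num) (by rw [hC]; norm_num)
    · exact false_of_small P hP hG hidx (q := 2) (k := 2) (by norm_num) (by norm_num)
        (by rw [hC]; norm_num) (by rw [hC]; norm_num) (by rw [hN]; norm_num)
        (by rw [hg]; norm_num) (by rw [hC]; norm_num)
    · exact false_of_central hG P hP hg hC hN
    · exact false_of_small P hP hG hidx (q := 3) (k := 1) (by norm_num) one_ne_zero
        (by rw [hC]; norm_num) (by rw [hC]; norm_num) (by rw [hN]; norm_num)
        (by rw [hg]; norm_num) (by rw [hC]; norm_num)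
    · exact false_of_small P hP hG hidx (q := 3) (k := 1) (by norm_num) one_ne_zero
        (by rw [hC]; norm_num) (by rw [hC]; norm_num) (by rw [hN]; norm_num)
        (by rw [hg]; norm_num) (by rw [hC]; norm_num)

end Cfsg.Agent.Lib.DegreeGraphM12
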