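import Mathlib
import Cfsg.Agent.Lib.DegreeGraphM12.Orders
import Cfsg.Agent.Lib.SmallSimple1.StructExc
import Cfsg.Agent.Lib.SmallSimple1.Degrees
import Cfsg.Agent.Lib.Recognition.NonadjacentPrimes
import Cfsg.Agent.Lib.Coherence.Degree
import Cfsg.Agent.Lib.Primitive62.Basic

/-!
The simple section of a group of order 95040 with degrees divisible by 55.
-/

set_option autoImplicit false
set_option linter.style.haveILetI false

namespace Cfsg.Agent.Lib.DegreeGraphM12

open Cfsg Cfsg.Agent.Lib Subgroup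

universe u

variable {G : Type u} [Group G] [Finite G]

theorem commute_of_pGroup_normalized (hcard : Nat.card G = 95040) {q : ℕ} [hq : Fact q.Prime]
    (hq11 : q ≠ 11) (Q : Subgroup G) (hQ : IsPGroup q Q) {x : G} (hx : orderOf x = 11)
    (hn : x ∈ normalizer (Q : Set G)) : ∀ a ∈ Q, x * a = a * x := by
  set H := normalizer (Q : Set G) with hH
  haveI hQn : (Q.subgroupOf H).Normal := normal_in_normalizer
  have hcQ : Nat.card (Q.subgroupOf H) = Nat.card Q :=
    Nat.card_congr (subgroupOfEquivOfLe le_normalizer).toEquiv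
  obtain ⟨k, hk⟩ := IsPGroup.iff_card.mp hQ
  have hdvd : q ^ k ∣ 95040 := hcard ▸ hk ▸ card_subgroup_dvd_card Q
  have h11 : ¬ 11 ^ 2 ∣ Nat.card H := fun h => by
    have := h.trans (hcard ▸ card_subgroup_dvd_card H)
    norm_num at this
  have hr : ¬ 11 ∣ Nat.card (Q.subgroupOf H) := fun h => by
    rw [hcQ, hk] at h
    exact hq11 ((Nat.prime_dvd_prime_iff_eq (by norm_num) hq.out).mp
      ((by norm_num : Nat.Prime 11).dvd_of_dvd_pow h)).symm
  have hd : ∀ d : ℕ, d ∣ Nat.card (Q.subgroupOf H) → d % 11 = 1 → d = 1 := by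
    intro d hd h1
    rw [hcQ, hk] at hd
    have key2 : ∀ a : ℕ, a < 7 → a = 0 ∨ 2 ^ a % 11 ≠ 1 := by decide +kernel
    have key3 : ∀ a : ℕ, a < 4 → a = 0 ∨ 3 ^ a % 11 ≠ 1 := by decide +kernel
    have key5 : ∀ a : ℕ, a < 2 → a = 0 ∨ 5 ^ a % 11 ≠ 1 := by decide +kernel
    obtain ⟨j, hj, rfl⟩ := (Nat.dvd_prime_pow hq.out).mp hd
    by_cases hj0 : j = 0
    · rw [hj0, pow_zero]
    have hjd : q ^ j ∣ 2 ^ 6 * (3 ^ 3 * (5 * 11)) := (pow_dvd_pow q hj).trans hdvd
    have hq' : q = 2 ∨ q = 3 ∨ q = 5 := by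
      have h := (dvd_pow_self q hj0).trans hjd
      rcases hq.out.dvd_mul.mp h with h | h
      · exact Or.inl ((Nat.prime_dvd_prime_iff_eq hq.out Nat.prime_two).mp (hq.out.dvd_of_dvd_pow h))
      rcases hq.out.dvd_mul.mp h with h | h
      · exact Or.inr (Or.inl ((Nat.prime_dvd_prime_iff_eq hq.out Nat.prime_three).mp
          (hq.out.dvd_of_dvd_pow h)))
      rcases hq.out.dvd_mul.mp h with h | h
      · exact Or.inr (Or.inr ((Nat.prime_dvd_prime_iff_eq hq.out (by norm_num)).mp h))
      · exact absurd ((Nat.prime_dvd_prime_iff_eq hq.out (by norm_num)).mp h) hq11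
    rcases hq' with rfl | rfl | rfl
    · have hj6 : j ≤ 6 := by
        by_contra h
        have h' := (pow_dvd_pow 2 (show 7 ≤ j by omega)).trans hjd
        norm_num at h'
      exact absurd h1 ((key2 j (by omega)).resolve_left hj0)
    · have hj3 : j ≤ 3 := by
        by_contra h
        have h' := (pow_dvd_pow 3 (show 4 ≤ j by omega)).trans hjd
        norm_num at h'
      exact absurd h1 ((key3 j (by omega)).resolve_left hj0)
    · have hj1 : j ≤ 1 := by
        by_contra h
        have h' := (pow_dvd_pow 5 (show 2 ≤ j by omega)).trans hjd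
        norm_num at h'
      exact absurd h1 ((key5 j (by omega)).resolve_left hj0)
  intro a ha
  exact congrArg Subtype.val (SmallSimple1.commute_normal_of_divisors (by norm_num) h11
    (Q.subgroupOf H) hr (y := (⟨x, hn⟩ : H)) (by rw [Subgroup.orderOf_mk, hx]) hd
    ⟨a, le_normalizer ha⟩ (mem_subgroupOf.mpr ha))

/-- An element of order 11 centralises every normal subgroup of order prime to 11. -/
theorem commute_normal (hcard : Nat.card G = 95040) (L : Subgroup G) [L.Normal]
    (hL : ¬ 11 ∣ Nat.card L) {x : G} (hx : orderOf x = 11) : ∀ l ∈ L, x * l = l * x := by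
  classical
  set D := L ⊓ centralizer ({x} : Set G) with hD
  suffices L ≤ D by
    intro l hl
    exact (mem_centralizer_singleton_iff.mp (this hl).2).symm
  have hdvd : Nat.card L ∣ Nat.card D := by
    refine (Nat.dvd_iff_prime_pow_dvd_dvd _ _).mpr fun q k hq hk => ?_
    by_cases hk0 : k = 0
    · rw [hk0, pow_zero]; exact one_dvd _
    haveI := Fact.mk hq
    haveI : Fact (Nat.Prime 11) := ⟨by norm_num⟩
    have hq11 : q ≠ 11 := fun h => hL (h ▸ (dvd_pow_self q hk0).trans hk)
    letI : MulAction (zpowers x) (Sylow q L) :=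
      MulAction.compHom _ ((MulAut.conjNormal (H := L)).comp (zpowers x).subtype)
    obtain ⟨S, hS⟩ := (IsPGroup.of_card (p := 11) (n := 1) (G := zpowers x)
      (by rw [Nat.card_zpowers, hx, pow_one])).nonempty_fixed_point_of_prime_not_dvd_card (Sylow q L)
      (fun h => hL (h.trans (S_card_dvd q L)))
    set Q := (S : Subgroup L).map L.subtype with hQ
    have hmove : ∀ y ∈ zpowers x, ∀ a ∈ Q, y * a * y⁻¹ ∈ Q := by
      rintro y hy _ ⟨a, ha, rfl⟩
      have h := hS ⟨y, hy⟩
      refine ⟨MulAut.conjNormal y a, ?_, MulAut.conjNormal_apply y a⟩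
      rw [SetLike.mem_coe, ← h]
      exact Subgroup.smul_mem_pointwise_smul a (MulAut.conjNormal y) _ ha
    have hn : x ∈ normalizer (Q : Set G) := by
      refine mem_normalizer_iff.mpr fun a => ⟨hmove x (mem_zpowers x) a, fun h => ?_⟩
      have := hmove x⁻¹ (inv_mem (mem_zpowers x)) _ h
      rwa [show x⁻¹ * (x * a * x⁻¹) * x⁻¹⁻¹ = a by group] at this
    have hQD : Q ≤ D := fun a ha => ⟨map_subtype_le _ ha, mem_centralizer_singleton_iff.mpr
      (commute_of_pGroup_normalized hcard hq11 Q (S.2.map _) hx hn a ha).symm⟩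
    refine dvd_trans ?_ (card_dvd_of_le hQD)
    rw [hQ, card_map_of_injective L.subtype_injective]
    exact Sylow.pow_dvd_card_of_pow_dvd_card S hk
  exact (eq_of_le_of_card_ge inf_le_left (Nat.le_of_dvd Nat.card_pos hdvd)).ge
where
  S_card_dvd (q : ℕ) [Fact q.Prime] (L : Subgroup G) : Nat.card (Sylow q L) ∣ Nat.card L :=
    (default : Sylow q L).card_dvd_index.trans (index_dvd_card _)

/-- A normal subgroup mapping onto a nonabelian simple group of order 7920 or 95040 with central
kernel. -/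
theorem exists_core (hcard : Nat.card G = 95040)
    (h55 : ∃ χ : IrrCharacter G, 55 ∣ charDegree (χ : G → ℂ)) :
    ∃ (K : Subgroup G) (T : Type u) (_ : Group T) (_ : Finite T) (_ : IsSimpleGroup T) (φ : K →* T),
      K.Normal ∧ commutator K = ⊤ ∧ Function.Surjective φ ∧ φ.ker ≤ center K ∧
      (Nat.card T = 7920 ∨ Nat.card T = 95040) := by
  classical
  haveI : Fact (Nat.Prime 11) := ⟨by norm_num⟩
  have h121 : ¬ 11 ^ 2 ∣ Nat.card G := by rw [hcard]; norm_num
  have h11 : (11 : ℕ) ∈ degreePrimes G := by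
    obtain ⟨χ, hχ⟩ := h55
    exact ⟨by norm_num, _, ⟨χ, rfl⟩, (show 11 ∣ 55 by norm_num).trans hχ⟩
  obtain ⟨L, ⟨hLn, hL11⟩, hLmax⟩ :=
    (Set.toFinite {L : Subgroup G | L.Normal ∧ ¬ 11 ∣ Nat.card L}).exists_maximal
      ⟨⊥, inferInstance, by rw [card_bot]; norm_num⟩
  haveI := hLn
  set f := QuotientGroup.mk' L with hf
  have hq := card_eq_card_quotient_mul_card_subgroup L
  have h11q : 11 ∣ Nat.card (G ⧸ L) :=
    ((Fact.out : Nat.Prime 11).dvd_mul.mp
      (hq ▸ hcard ▸ (by norm_num : 11 ∣ 95040))).resolve_right hL11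
  have hne : (⊤ : Subgroup (G ⧸ L)) ≠ ⊥ := fun h => by
    have h' := congrArg (fun H : Subgroup (G ⧸ L) => Nat.card H) h
    simp only [card_top, card_bot] at h'
    rw [h'] at h11q
    norm_num at h11q
  obtain ⟨M', hM'n, hM'ne, -, hmin⟩ := Primitive62.exists_minimal_normal (⊤ : Subgroup (G ⧸ L)) hne
  haveI := hM'n
  have hM'11 : 11 ∣ Nat.card M' := by
    by_contra h
    have hle : L ≤ M'.comap f := fun g hg => by
      rw [mem_comap, show f g = 1 from (QuotientGroup.eq_one_iff g).mpr hg]
      exact M'.one_mem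
    have hc : Nat.card (M'.comap f) = Nat.card M' * Nat.card L := by
      have h1 := (M'.comap f).card_mul_index
      rw [index_comap_of_surjective _ (QuotientGroup.mk'_surjective L), hq, ← M'.card_mul_index,
        mul_assoc, mul_comm M'.index, ← mul_assoc] at h1
      exact Nat.eq_of_mul_eq_mul_right (Nat.pos_of_ne_zero index_ne_zero_of_finite) h1
    have hcM : ¬ 11 ∣ Nat.card (M'.comap f) := by
      rw [hc]
      exact fun h' => ((Fact.out : Nat.Prime 11).dvd_mul.mp h').elim h hL11
    have heq : M'.comap f ≤ L := hLmax ⟨hM'n.comap f, hcM⟩ hle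
    refine hM'ne ((Subgroup.eq_bot_iff_forall _).mpr fun z hz => ?_)
    obtain ⟨g, rfl⟩ := QuotientGroup.mk'_surjective L z
    exact (QuotientGroup.eq_one_iff g).mpr (heq hz)
  have hq121 : ¬ 11 ^ 2 ∣ Nat.card (G ⧸ L) := fun h => h121 (h.trans ⟨_, hq⟩)
  haveI hsimp : IsSimpleGroup M' := NonadjacentPrimes.isSimpleGroup_of_exponent_one M' hM'ne hmin hM'11
    fun h => hq121 (h.trans (card_subgroup_dvd_card M'))
  obtain ⟨x, hx⟩ := exists_prime_orderOf_dvd_card' (G := G) 11 (hcard ▸ (by norm_num : 11 ∣ 95040))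
  have hcomm := commute_normal hcard L hL11 hx
  have hna : ¬ IsMulCommutative M' := fun hc => by
    letI : CommGroup M' := { (inferInstance : Group M') with mul_comm := mul_comm' }
    have hp : (Nat.card M').Prime := IsSimpleGroup.prime_card
    have hM'c : Nat.card M' = 11 := ((Nat.prime_dvd_prime_iff_eq (by norm_num) hp).mp hM'11).symm
    haveI := SmallSimple1.zpowers_normal_of_centralizes (by norm_num) h121 L hL11 hx hcomm M' hM'c
    refine SmallSimple1.not_mem_degreePrimes (zpowers x) (fun h => h121 ?_) h11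
    rw [← card_mul_index (zpowers x), sq, Nat.card_zpowers, hx]
    exact Nat.mul_dvd_mul_left 11 h
  have hxM : f x ∈ M' := by
    rw [← QuotientGroup.eq_one_iff (N := M')]
    refine orderOf_eq_one_iff.1 (((Nat.dvd_prime (Fact.out : Nat.Prime 11)).1
      ((orderOf_map_dvd (QuotientGroup.mk' M') _).trans
        ((orderOf_map_dvd f x).trans (by rw [hx])))).resolve_right fun he => hq121 ?_)
    rw [card_eq_card_quotient_mul_card_subgroup M', sq]
    exact Nat.mul_dvd_mul (he ▸ orderOf_dvd_natCard _) hM'11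
  set C := M'.comap f ⊓ centralizer (L : Set G) with hC
  have hxC : x ∈ C := ⟨hxM, mem_centralizer_iff.mpr fun l hl => (hcomm l hl).symm⟩
  have hC11 : 11 ∣ Nat.card C := hx ▸ Subgroup.orderOf_dvd_natCard C hxC
  haveI : (centralizer (L : Set G)).Normal := inferInstance
  obtain ⟨K, ⟨hKn, hKC, hK11⟩, hKmin⟩ :=
    (Set.toFinite {K : Subgroup G | K.Normal ∧ K ≤ C ∧ 11 ∣ Nat.card K}).exists_minimal
      ⟨C, inferInstance, le_rfl, hC11⟩
  haveI := hKn
  have hKM : K.map f ≤ M' := map_le_iff_le_comap.mpr (hKC.trans inf_le_left)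
  have hKtop : K.map f = M' := by
    refine (hmin _ (hKn.map f (QuotientGroup.mk'_surjective L)) hKM).resolve_left fun h => ?_
    rw [Subgroup.map_eq_bot_iff, hf, QuotientGroup.ker_mk'] at h
    exact hL11 (hK11.trans (card_dvd_of_le h))
  have hperf : commutator K = ⊤ := by
    have hle : ⁅K, K⁆ ≤ K := commutator_le_right K K
    have heq : ⁅K, K⁆ = K := by
      by_cases h : 11 ∣ Nat.card (⁅K, K⁆ : Subgroup G)
      · exact le_antisymm hle (hKmin ⟨commutator_normal K K, hle.trans hKC, h⟩ hle)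
      · exfalso
        have hKL : ⁅K, K⁆ ≤ L := le_sup_left.trans (hLmax (y := ⁅K, K⁆ ⊔ L)
          ⟨inferInstance, fun h2 => ?_⟩ le_sup_right)
        · apply hna
          refine IsMulCommutative.of_comm fun a b => ?_
          obtain ⟨a', ha', ea⟩ : (a : G ⧸ L) ∈ K.map f := hKtop.symm ▸ a.2
          obtain ⟨b', hb', eb⟩ : (b : G ⧸ L) ∈ K.map f := hKtop.symm ▸ b.2
          refine Subtype.ext ?_
          show (a : G ⧸ L) * b = b * a
          rw [← ea, ← eb, ← commutatorElement_eq_one_iff_mul_comm, ← map_commutatorElement]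
          exact (QuotientGroup.eq_one_iff _).mpr (hKL (commutator_mem_commutator ha' hb'))
        · have h3 : Nat.card ↥(⁅K, K⁆ ⊔ L) = Nat.card L * L.relIndex ⁅K, K⁆ := by
            rw [← relIndex_sup_right, ← relIndex_bot_left, ← relIndex_bot_left,
              relIndex_mul_relIndex _ _ _ bot_le le_sup_right]
          rw [h3] at h2
          rcases (Fact.out : Nat.Prime 11).dvd_mul.mp h2 with h' | h'
          · exact hL11 h'
          · exact h (h'.trans (relIndex_dvd_card _ _))
    refine map_injective K.subtype_injective ?_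
    rw [← MonoidHom.range_eq_map, range_subtype, _root_.commutator_def, map_commutator,
      ← MonoidHom.range_eq_map, range_subtype, heq]
  let φ : K →* M' := (f.comp K.subtype).codRestrict M' fun k => hKM (mem_map_of_mem f k.2)
  have hφ : Function.Surjective φ := by
    intro a
    obtain ⟨k, hk, e⟩ : (a : G ⧸ L) ∈ K.map f := hKtop.symm ▸ a.2
    exact ⟨⟨k, hk⟩, Subtype.ext e⟩
  have hker : φ.ker ≤ center K := by
    intro k hk
    have hkL : (k : G) ∈ L := (QuotientGroup.eq_one_iff _).mp (congrArg Subtype.val hk)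
    exact mem_center_iff.mpr fun g => Subtype.ext
      (mem_centralizer_iff.mp (hKC g.2).2 (k : G) hkL).symm
  have hidx : φ.ker.index = Nat.card M' := by
    rw [index_ker, MonoidHom.range_eq_top.mpr hφ, card_top]
  have hdvd : Nat.card M' ∣ 95040 :=
    hcard ▸ (hidx ▸ φ.ker.index_dvd_card).trans (card_subgroup_dvd_card K)
  refine ⟨K, M', inferInstance, inferInstance, hsimp, φ, hKn, hperf, hφ, hker,
    (orders hna hdvd hM'11).resolve_left fun h660 => ?_⟩
  -- a degree divisible by 55 needs a larger simple section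
  have h55K : 55 ∣ Nat.card K := by
    refine Nat.dvd_trans ?_ (hidx ▸ φ.ker.index_dvd_card)
    rw [h660]; norm_num
  obtain ⟨χ, hχ⟩ := h55
  cases nonempty_fintype K
  obtain ⟨d, hd, -, hde⟩ := SmallSimple1.exists_degree_below K (e := charDegree (χ : G → ℂ))
    ⟨χ, rfl⟩
  have hcop : Nat.Coprime 55 K.index := by
    obtain ⟨c, hc⟩ := h55K
    have hi := K.card_mul_index
    rw [hc, hcard] at hi
    have hci : c * K.index = 1728 := by
      refine Nat.eq_of_mul_eq_mul_left (show 0 < 55 by norm_num) ?_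
      rw [← mul_assoc, hi]
    exact Nat.Coprime.coprime_dvd_right (hci ▸ dvd_mul_left K.index c) (by norm_num)
  have h55d : 55 ∣ d := hcop.dvd_of_dvd_mul_left (hχ.trans hde)
  obtain ⟨θ, rfl⟩ := hd
  obtain ⟨hpos, hθ⟩ := Chars.charDegree_spec θ
  have hle := Coherence.degree_sq_le_index θ φ.ker (fun a ha y => by
    rw [show a * y = y * a from (mem_center_iff.mp (hker ha) y).symm]
    group) _ hθ
  rw [hidx, h660] at hle
  obtain ⟨j, hj⟩ := h55d
  rw [hj] at hle hpos
  have h1 : 55 ^ 2 ≤ (55 * j) ^ 2 := Nat.pow_le_pow_left (by omega) 2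
  omega

end Cfsg.Agent.Lib.DegreeGraphM12
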