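import Mathlib
import Cfsg.Agent.Lib.DegreeGraphM12.Table
import Cfsg.Agent.Lib.DegreeGraphM12.Reduction
import Cfsg.Agent.Lib.Recog95040.Nse
import Cfsg.Agent.Lib.Recog7920.Iso
import Cfsg.Agent.Lib.Fusion.Mathieu.Identify
import Cfsg.Agent.Lib.M11Order.Simple
import Cfsg.Agent.Lib.M11Order.Count
import Cfsg.Agent.Lib.Schur.Cover
import Cfsg.Agent.Lib.CharSimple.Basic
import Cfsg.Agent.S2034
import Cfsg.Agent.S2060
import Cfsg.Agent.S4429
import Cfsg.Agent.S0188

/-!
The degree graph of `M12` and the groups of order 95040 sharing it.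
-/

set_option autoImplicit false
set_option linter.style.haveILetI false

namespace Cfsg.Agent.Lib.DegreeGraphM12

open Cfsg Cfsg.Agent.Lib Subgroup

universe u

theorem isM11_M11 : IsM11 ↥Cfsg.Spor.M11 := by
  refine ⟨?_, ?_⟩
  · rw [Cfsg.Agent.Lib.Fusion.Mathieu.eq_m11]
    exact Cfsg.Agent.Lib.Compute.Mathieu.isSimpleGroup_m11
  · rw [Cfsg.Agent.Lib.Fusion.Mathieu.eq_m11]
    exact Cfsg.Agent.Lib.Compute.Mathieu.card_m11

/-- The degree graph of a simple group of order 95040 joins 5 and 11, and 3 and 11. -/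
theorem adj_of_isM12 {H : Type u} [Group H] [Finite H] (hH : IsM12 H) :
    (degreeGraph H).Adj 5 11 ∧ (degreeGraph H).Adj 3 11 := by
  haveI : Fintype H := Fintype.ofFinite H
  haveI : Fact (Nat.Prime 5) := ⟨by norm_num⟩
  obtain ⟨⟨χ, hχ⟩, χ', hχ'⟩ := exists_degrees hH
  have hd : ∀ ψ : IrrCharacter H, charDegree (ψ : H → ℂ) = Recog95040.deg hH ψ := fun ψ => by
    rw [charDegree, (Recog95040.deg_spec hH ψ).1, Complex.natCast_re, Nat.floor_natCast]
  refine ⟨⟨by norm_num, by norm_num, by norm_num, _, ⟨χ, rfl⟩, ?_⟩,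
    ⟨by norm_num, by norm_num, by norm_num, _, ⟨χ', rfl⟩, ?_⟩⟩
  · rw [hd]; exact_mod_cast hχ
  · rw [hd]; exact_mod_cast hχ'

/-- A group of order 12 with a degree divisible by 3 is alternating. -/
theorem alternating_four {C : Type u} [Group C] [Finite C] (hC : Nat.card C = 12)
    (h3 : 3 ∈ degreePrimes C) : Nonempty (C ≃* alternatingGroup (Fin 4)) := by
  classical
  haveI := Fact.mk Nat.prime_three
  obtain ⟨P⟩ : Nonempty (Sylow 3 C) := inferInstance
  have hP : Nat.card P = 3 := SmallGroups.card_sylow_eq (k := 1) (m := 4) P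
    (by rw [hC]; norm_num) (by norm_num)
  have h4 : Nat.card (Sylow 3 C) = 4 := by
    have hmul := SmallGroups.card_normalizer_sylow_mul P
    have hmod := card_sylow_modEq_one 3 C
    rw [Nat.ModEq, Nat.mod_eq_of_lt (show 1 < 3 by norm_num)] at hmod
    have hle : 3 ∣ Nat.card (normalizer ((P : Subgroup C) : Set C)) :=
      (dvd_of_eq hP.symm).trans (card_dvd_of_le le_normalizer)
    obtain ⟨a, ha⟩ := hle
    rw [ha, hC] at hmul
    set n := Nat.card (Sylow 3 C) with hn
    have hn4 : n ∣ 4 := ⟨a, Nat.eq_of_mul_eq_mul_left (show 0 < 3 by norm_num) (by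
      rw [show 3 * 4 = 12 by rfl, ← hmul]; ring)⟩
    have hne : n ≠ 1 := fun h => by
      haveI : Subsingleton (Sylow 3 C) := (Nat.card_eq_one_iff_unique.mp h).1
      haveI := P.normal_of_subsingleton
      haveI : IsCyclic (P : Subgroup C) := isCyclic_of_prime_card hP
      refine SmallSimple1.not_mem_degreePrimes (P : Subgroup C) (fun hd => ?_) h3
      have h9 := Nat.mul_dvd_mul_left 3 hd
      rw [show 3 * (P : Subgroup C).index = Nat.card C from
        (congrArg (· * (P : Subgroup C).index) hP).symm.trans (card_mul_index _), hC] at h9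
      norm_num at h9
    have := Nat.le_of_dvd (by norm_num) hn4
    have : 4 % n = 0 := Nat.mod_eq_zero_of_dvd hn4
    interval_cases n <;> omega
  set f := MulAction.toPermHom C (Sylow 3 C) with hf
  have hker : f.ker = ⊥ := by
    by_contra hne
    have hleN : f.ker ≤ normalizer ((P : Subgroup C) : Set C) := fun g hg => by
      exact Sylow.smul_eq_iff_mem_normalizer.mp (Equiv.congr_fun (MonoidHom.mem_ker.mp hg) P)
    have hNc := (normalizer ((P : Subgroup C) : Set C)).index_mul_card
    rw [show (normalizer ((P : Subgroup C) : Set C)).index = Nat.card (Sylow 3 C) from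
      P.card_eq_index_normalizer.symm, h4, hC] at hNc
    have heq : (P : Subgroup C) = normalizer ((P : Subgroup C) : Set C) :=
      eq_of_le_of_card_ge le_normalizer (by rw [hP]; omega)
    have hkP : f.ker = (P : Subgroup C) := by
      rw [← heq] at hleN
      refine eq_of_le_of_card_ge hleN ?_
      have hdvd := card_dvd_of_le hleN
      rw [hP, Nat.dvd_prime Nat.prime_three] at hdvd
      rcases hdvd with h1 | h1
      · exact absurd (eq_bot_of_card_eq _ h1) hne
      · rw [hP, h1]
    have : (P : Subgroup C).Normal := hkP ▸ inferInstance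
    have := P.unique_of_normal this
    rw [Nat.card_unique] at h4
    omega
  cases nonempty_fintype (Sylow 3 C)
  let e : Sylow 3 C ≃ Fin 4 := (Finite.equivFinOfCardEq h4)
  set g := e.permCongrHom.toMonoidHom.comp f with hgdef
  have hginj : Function.Injective g :=
    e.permCongrHom.injective.comp ((MonoidHom.ker_eq_bot_iff f).mp hker)
  have hidx : g.range.index = 2 := by
    have h1 := g.range.index_mul_card
    rw [← Nat.card_congr (MonoidHom.ofInjective hginj).toEquiv, hC, Nat.card_perm, Nat.card_fin,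
      show Nat.factorial 4 = 24 from rfl] at h1
    omega
  exact ⟨(MonoidHom.ofInjective hginj).trans
    (MulEquiv.subgroupCongr (Equiv.Perm.eq_alternatingGroup_of_index_eq_two hidx))⟩

/-- The groups of order 95040 with degrees divisible by 55 and by 33. -/
theorem main {G : Type u} [Group G] [Finite G] (hcard : Nat.card G = 95040)
    (h55 : ∃ χ : IrrCharacter G, 55 ∣ charDegree (χ : G → ℂ))
    (h33 : ∃ χ : IrrCharacter G, 33 ∣ charDegree (χ : G → ℂ)) :
    IsM12 G ∨ Nonempty (G ≃* alternatingGroup (Fin 4) × ↥Cfsg.Spor.M11) := by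
  classical
  obtain ⟨K, T, _, _, _, φ, hKn, hperf, hφ, hker, hT⟩ := exists_core hcard h55
  haveI := hKn
  have hidx : φ.ker.index = Nat.card T := by
    rw [index_ker, MonoidHom.range_eq_top.mpr hφ, card_top]
  have hKc : Nat.card φ.ker * Nat.card T = Nat.card K := hidx ▸ φ.ker.card_mul_index
  rcases hT with hT | hT
  · right
    obtain ⟨ψ⟩ := Recog7920.nonempty_mulEquiv (H := T) (K := ↥Cfsg.Spor.M11)
      ⟨inferInstance, hT⟩ isM11_M11
    set σ := ψ.toMonoidHom.comp φ with hσ
    have hσs : Function.Surjective σ := ψ.surjective.comp hφ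
    have hσk : σ.ker = φ.ker := by ext a; simp [hσ, MonoidHom.mem_ker]
    have hbot := Schur.ker_inf_commutator_eq_bot S2034.result σ hσs (hσk.symm ▸ hker)
    rw [hperf, inf_top_eq] at hbot
    let e : K ≃* ↥Cfsg.Spor.M11 :=
      MulEquiv.ofBijective σ ⟨(MonoidHom.ker_eq_bot_iff σ).mp hbot, hσs⟩
    haveI := isM11_M11.1
    haveI hKs : IsSimpleGroup K := e.isSimpleGroup
    have hKcard : Nat.card K = 7920 := (Nat.card_congr e.toEquiv).trans isM11_M11.2
    have hKna : ¬ IsMulCommutative K := fun h => by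
      letI : CommGroup K := { (inferInstance : Group K) with mul_comm := mul_comm' }
      have hp : (Nat.card K).Prime := IsSimpleGroup.prime_card
      rw [hKcard] at hp
      norm_num at hp
    set C := centralizer (K : Set G) with hC
    have hgen : ∀ g : G, ∃ k : K, (k : G)⁻¹ * g ∈ C := by
      intro g
      let a : MulAut ↥Cfsg.Spor.M11 := (e.symm.trans (MulAut.conjNormal g)).trans e
      haveI : Subsingleton (Cfsg.Out ↥Cfsg.Spor.M11) :=
        (Nat.card_eq_one_iff_unique.mp S2060.result).1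
      obtain ⟨m, hm⟩ : a ∈ Cfsg.Inn ↥Cfsg.Spor.M11 :=
        (QuotientGroup.eq_one_iff a).mp (Subsingleton.elim _ _)
      refine ⟨e.symm m, mem_centralizer_iff.mpr fun k hk => ?_⟩
      have h := DFunLike.congr_fun hm (e ⟨k, hk⟩)
      simp only [MulAut.conj_apply, a, MulEquiv.trans_apply, MulEquiv.symm_apply_apply] at h
      have h' : e.symm (m * e ⟨k, hk⟩ * m⁻¹) = MulAut.conjNormal g (⟨k, hk⟩ : K) := by
        rw [h, MulEquiv.symm_apply_apply]
      rw [map_mul, map_mul, map_inv, MulEquiv.symm_apply_apply] at h'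
      have h'' : (e.symm m : G) * k * (e.symm m : G)⁻¹ = g * k * g⁻¹ :=
        (congrArg Subtype.val h').trans (MulAut.conjNormal_apply g _)
      calc k * ((e.symm m : G)⁻¹ * g) = (e.symm m : G)⁻¹ * ((e.symm m : G) * k * (e.symm m : G)⁻¹) * g := by
            group
        _ = (e.symm m : G)⁻¹ * g * k := by rw [h'']; group
    have hcomm : ∀ (c : C) (k : K), (c : G) * k = k * c := fun c k =>
      (mem_centralizer_iff.mp c.2 k k.2).symm
    let μ : C × K →* G :=
      { toFun := fun p => (p.1 : G) * p.2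
        map_one' := by simp
        map_mul' := fun p q => by
          show ((p.1 * q.1 : C) : G) * ((p.2 * q.2 : K) : G) = p.1 * p.2 * (q.1 * q.2)
          rw [Subgroup.coe_mul, Subgroup.coe_mul]
          calc (p.1 : G) * q.1 * (p.2 * q.2) = p.1 * ((q.1 : G) * p.2) * q.2 := by group
            _ = _ := by rw [hcomm q.1 p.2]; group }
    have hμ : Function.Bijective μ := by
      refine ⟨(injective_iff_map_eq_one μ).mpr fun p hp => ?_, fun g => ?_⟩
      · have h : (p.1 : G) * p.2 = 1 := hp
        have hp2 : (p.2 : G)⁻¹ ∈ C := eq_inv_of_mul_eq_one_left h ▸ p.1.2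
        have hmem : p.2 ∈ center K := mem_center_iff.mpr fun k => Subtype.ext (by
          have hc := mem_centralizer_iff.mp hp2 k k.2
          show (k : G) * p.2 = p.2 * k
          exact (Commute.inv_right_iff.mp (show Commute (k : G) (p.2 : G)⁻¹ from hc)).eq)
        rw [CharSimple.center_eq_bot hKna, mem_bot] at hmem
        have h1 : (p.2 : G) = 1 := by rw [hmem]; rfl
        rw [h1, mul_one] at h
        exact Prod.ext (Subtype.ext h) hmem
      · obtain ⟨k, hk⟩ := hgen g
        refine ⟨(⟨_, hk⟩, k), ?_⟩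
        show (k : G)⁻¹ * g * k = g
        rw [show ((k : G)⁻¹ * g) * k = k * ((k : G)⁻¹ * g) from hcomm ⟨_, hk⟩ k]
        group
    let E : C × K ≃* G := MulEquiv.ofBijective μ hμ
    have hCc : Nat.card C = 12 := by
      have h := Nat.card_congr E.toEquiv
      rw [Nat.card_prod, hKcard, hcard] at h
      omega
    obtain ⟨χ, hχ⟩ := h33
    cases nonempty_fintype C
    cases nonempty_fintype K
    obtain ⟨α, β, hα, hβ, hfun⟩ :=
      (S0188.result _).mp (Chars.isIrrCharacter_comp_mulEquiv E χ.2)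
    obtain ⟨ha0, ha⟩ := Chars.charDegree_spec (⟨α, hα⟩ : IrrCharacter C)
    obtain ⟨hb0, hb⟩ := Chars.charDegree_spec (⟨β, hβ⟩ : IrrCharacter K)
    set a := charDegree ((⟨α, hα⟩ : IrrCharacter C) : C → ℂ)
    set b := charDegree ((⟨β, hβ⟩ : IrrCharacter K) : K → ℂ) with hbdef
    have hab : charDegree (χ : G → ℂ) = a * b := by
      refine Nat.cast_injective (R := ℂ) ?_
      have h := congrFun hfun 1
      change (χ : G → ℂ) (E 1) = _ at h
      rw [map_one, Prod.fst_one, Prod.snd_one] at h
      rw [← (Chars.charDegree_spec χ).2, h, Nat.cast_mul, ← ha, ← hb]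
    have ha3 : a ≤ 3 := by
      have h := SmallSimple1.sum_sq_le (G := C) {(⟨α, hα⟩ : IrrCharacter C)}
      rw [Finset.sum_singleton, hCc] at h
      nlinarith
    have hblist : b = 1 ∨ b = 11 ∨ b = 44 ∨ b = 45 ∨ b = 55 ∨ b = 10 ∨ b = 16 := by
      have h := (S4429.result (G := K) hKcard).2 b
      have hpos : 0 < Nat.card {χ : IrrCharacter K // charDegree (χ : K → ℂ) = b} :=
        Nat.card_pos_iff.mpr ⟨⟨⟨_, hbdef.symm⟩⟩, inferInstance⟩
      rw [h] at hpos
      split_ifs at hpos with h1 h2 h3 <;> omega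
    rw [hab] at hχ
    have hmod := Nat.mod_eq_zero_of_dvd hχ
    have ha' : a = 3 := by
      rcases (show a = 1 ∨ a = 2 ∨ a = 3 by omega) with h | h | h
      · rcases hblist with hb' | hb' | hb' | hb' | hb' | hb' | hb' <;> rw [h, hb'] at hmod <;>
          norm_num at hmod
      · rcases hblist with hb' | hb' | hb' | hb' | hb' | hb' | hb' <;> rw [h, hb'] at hmod <;>
          norm_num at hmod
      · exact h
    obtain ⟨eC⟩ := alternating_four hCc
      ⟨Nat.prime_three, a, ⟨⟨α, hα⟩, rfl⟩, dvd_of_eq ha'.symm⟩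
    exact ⟨E.symm.trans (eC.prodCongr e)⟩
  · left
    have hle : Nat.card K ≤ 95040 :=
      hcard ▸ Nat.le_of_dvd Nat.card_pos (card_subgroup_dvd_card K)
    rw [hT] at hKc
    have hz : 0 < Nat.card φ.ker := Nat.card_pos
    have hK1 : Nat.card K = 95040 := by nlinarith
    have hz1 : Nat.card φ.ker = 1 := by omega
    have hKtop : K = ⊤ := eq_top_of_card_eq K (hK1.trans hcard.symm)
    let e : G ≃* T := ((MulEquiv.subgroupCongr hKtop).trans Subgroup.topEquiv).symm.trans
      (MulEquiv.ofBijective φ ⟨(MonoidHom.ker_eq_bot_iff φ).mp (eq_bot_of_card_eq _ hz1), hφ⟩)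
    exact ⟨e.isSimpleGroup, hcard⟩

end Cfsg.Agent.Lib.DegreeGraphM12
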